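import Cfsg.Agent.SUE6.Defs
import Cfsg.Agent.UM6.J1
import Cfsg.Agent.UM6.K2

/-!
# Involutions of unitary groups in characteristic two are products of orthogonal transvections
-/

set_option autoImplicit false
set_option linter.unusedSectionVars false
set_option linter.unusedVariables false

namespace Cfsg.Lib.SUE6

open Subgroup Module Cfsg.Lib.Trans Cfsg.Lib.Gold Cfsg.Lib.Class.Form Cfsg.Lib.Class.FAut
open Cfsg.Lib.UM6 (Mo tT tE I2 I3 Fr3 Mx VW RR QW Fx St Semi Mp sg qn kk fa)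
open Cfsg.Lib.AE (Cn)
open Cfsg.Lib.SG2 (Uq Top)
open Cfsg.Lib.Comp (Tw)
open scoped commutatorElement

section Model
variable {E M : Type*} [Field E] [Finite E] [AddCommGroup M] [Module E M] [FiniteDimensional E M]
  {σ : E →+* E} {B : M →ₛₗ[σ] M →ₗ[E] E} {u x y : M} {U : Subgroup (sIsom B)} {W : Submodule E M}
  {e f : Fin 3 → M} {α : MulAut (sIsom B)} {Γ : M ≃+ M}

theorem CL1.diag (h : Mo B) (hW : TotIso B W) {v : sIsom B} (hv : v ∈ VW B W) :
    ∃ (r : ℕ) (y : Fin r → M), LinearIndependent E y ∧ (∀ i, y i ∈ W) ∧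
      ∀ x, lin v x = x + ∑ i, B (y i) x • y i := by
  suffices ∀ K : Submodule E M, ∀ v ∈ VW B W,
      LinearMap.eqLocus (lin v : M →ₗ[E] M) LinearMap.id = K → ∃ (r : ℕ) (y : Fin r → M),
        LinearIndependent E y ∧ (∀ i, y i ∈ W) ∧ ∀ x, lin v x = x + ∑ i, B (y i) x • y i from
    this _ v hv rfl
  intro K
  induction K using WellFoundedGT.induction with
  | _ K ih =>
  rintro v hv rfl
  by_cases v1 : v = 1
  · subst v1
    exact ⟨0, Fin.elim0, linearIndependent_empty_type, fun i => i.elim0, fun x => by simp⟩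
  obtain ⟨x, hx⟩ := UM6.K2.exists_self h v1
  have hu := UM6.mem_VW.1 hv x
  have hs := UM6.K2.sym h hW hv x
  generalize hu' : lin v x - x = u at hx hu hs
  have huu := hW u hu u hu
  have hd : σ (B x u)⁻¹ = (B x u)⁻¹ := by rw [map_inv₀, h.toHerm.conj, hs, hu']
  have hl : ∀ y, lin (v * tT B u (B x u)⁻¹) y = lin v y + ((B x u)⁻¹ * B u y) • u := fun y => by
    rw [lin_mul, h.lin_tT huu hd, map_add, map_smul, (h.VW_le_QW hW hv).1 u hu]
  have h1 : lin (v * tT B u (B x u)⁻¹) x = x := by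
    rw [hl, hs, hu', inv_mul_cancel₀ hx, one_smul]
    linear_combination (norm := module) hu' + h.vadd_self u
  obtain ⟨r, y, li, yW, hy⟩ := ih _ (lt_of_le_of_ne (fun y hy => by
      have hy' : lin v y = y := hy
      change lin _ y = y
      rw [hl, hs, hy', sub_self, map_zero, mul_zero, zero_smul, add_zero]) fun e => by
      have h1' : x ∈ LinearMap.eqLocus (lin (v * tT B u (B x u)⁻¹) : M →ₗ[E] M) LinearMap.id := h1
      have h2 : lin v x = x := (e ▸ h1' :)
      exact hx (by rw [← hu', h2, sub_self, map_zero])) _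
    (mul_mem hv (h.tT_mem huu hu hd)) rfl
  obtain ⟨a, ha⟩ := h.exists_nm hd
  have a0 : a ≠ 0 := by
    rintro rfl
    exact inv_ne_zero hx (by rw [← ha, mul_zero])
  have h3 : ∀ i, B (y i) x = 0 := by
    have := hy x
    rw [h1] at this
    exact Fintype.linearIndependent_iff.1 li _ (left_eq_add.1 this)
  refine ⟨r + 1, Fin.cons (a • u) y, linearIndependent_finCons.2 ⟨li, fun hm => ?_⟩,
    fun i => Fin.cases (W.smul_mem a hu) yW i, fun z => ?_⟩
  · have : Submodule.span E (Set.range y) ≤ LinearMap.ker (B x) :=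
      Submodule.span_le.2 (by rintro _ ⟨i, rfl⟩; exact h.swap (h3 i))
    have h4 : B x (a • u) = 0 := this hm
    rw [map_smul, smul_eq_mul] at h4
    exact mul_ne_zero a0 hx h4
  · rw [Fin.sum_univ_succ]
    simp only [Fin.cons_zero, Fin.cons_succ]
    have h5 := hy z
    rw [hl, ← ha] at h5
    rw [LinearMap.map_smulₛₗ₂, smul_eq_mul]
    linear_combination (norm := module) h5 - h.vadd_self ((σ a * a * B u z) • u)

theorem exists_diag (h : Mo B) {v : sIsom B} (v2 : v * v = 1) : ∃ (r : ℕ) (y : Fin r → M),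
    LinearIndependent E y ∧ (∀ i j, B (y i) (y j) = 0) ∧
      ∀ x, lin v x = x + ∑ i, B (y i) x • y i := by
  obtain ⟨W, hW, hv⟩ := h.inv v2
  obtain ⟨r, y, li, yW, hy⟩ := CL1.diag h hW.ti hv
  exact ⟨r, y, li, fun i j => hW.ti _ (yW i) _ (yW j), hy⟩

end Model

end Cfsg.Lib.SUE6
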