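import Cfsg.Agent.UM6.Defs
import Cfsg.Agent.AE.Defs

/-!
# The end game for unitary overgroups in characteristic two: definitions
-/

set_option autoImplicit false
set_option linter.unusedSectionVars false

namespace Cfsg.Lib.SUE6

open Subgroup Module Cfsg.Lib.Trans Cfsg.Lib.Gold Cfsg.Lib.Class.Form Cfsg.Lib.Class.FAut
open Cfsg.Lib.UM6 (tT tE Fr3 Mx Fx St Semi Mp sg qn kk)
open Cfsg.Lib.AE (Cn)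
open Cfsg.Lib.SG2 (Uq)
open scoped commutatorElement

section Abstract

variable {G : Type*} [Group G]

/-- `g` acts trivially on `A / D`. -/
def Sb (A D : Subgroup G) (g : G) : Prop := ∀ q ∈ A, ⁅g, q⁆ ∈ D

/-- `g` stabilises the chain `Q ≥ C_Q(b) ≥ Z(C_Q(b)) ≥ R`. -/
def Ch (Q R : Subgroup G) (b g : G) : Prop :=
  Sb Q (Q ⊓ C1 b) g ∧ Sb (Q ⊓ C1 b) (Q ⊓ Cs (Q ⊓ C1 b)) g ∧ Sb (Q ⊓ Cs (Q ⊓ C1 b)) R g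

theorem Sb_eq_1' : type_of% @Sb.eq_1 := @Sb.eq_1
theorem Ch_eq_1' : type_of% @Ch.eq_1 := @Ch.eq_1

/-- The facts about the unitary group `L`: `U` is a Sylow 2-subgroup, `R` the group of transvections
in `Z(U)`, `P` the stabiliser of its centre, `Q = O₂(P)`, `z ∈ R`, and `a, a', w` are involutions of
rank two. -/
structure FI (L U P Q R : Subgroup G) (z a a' w : G) : Prop where
  perf : ⁅L, L⁆ = L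
  sylL : IsSylowIn 2 U L
  RQ : R ≤ Q
  QU : Q ≤ U
  UP : U ≤ P
  PL : P ≤ L
  zR : z ∈ R
  z1 : z ≠ 1
  el : ∀ r ∈ R, r * r = 1
  PR : P ≤ Cs R
  PQ : P ≤ Ns Q
  cQ : ⁅Q, Q⁆ = R
  sQ : ∀ v ∈ Q, v * v ∈ R
  rA : ∀ r ∈ R, r ≠ 1 → Cn L z r
  fq : ∀ v ∈ Q, v ∉ R → ∀ r ∈ R, ∃ b ∈ Q, b * v * b⁻¹ = v * r
  cQR : ∀ v ∈ P, Sb Q R v → v ∈ Q
  k3z : ∀ v ∈ P, Cn L z v → Cn L z (v * z) → v ∈ R
  k3a : ∀ v ∈ P, (∀ r ∈ R, Cn L a (v * r)) → v ∈ Q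
  irr : ∀ N : Subgroup G, R ≤ N → N ≤ Q → P ≤ Ns N → N = R ∨ N = Q
  f6 : ∀ v ∈ P, v ∉ Q → v * v ∈ R → ∃ b ∈ Q, ∃ d ∈ Q, b ∉ R ∧ d ∉ R ∧ Cn L a b ∧ Cn L a d ∧
    d⁻¹ * ⁅b, v⁆ ∈ R
  f7Q : ∀ N : Subgroup G, Q ≤ N → N ≤ U → (∀ v ∈ N, v * v = 1 → v ∈ Q) → N = Q
  f7R : ∀ N : Subgroup G, R ≤ N → N ≤ U → U ≤ Ns N → (∀ v ∈ N, v * v = 1 → v ∈ R) → N = R
  qs : ∀ N : Subgroup G, Q ≤ N → N ≤ P → P ≤ Ns N → ⁅N, P⁆ ≤ Q ∨ N = P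
  aQ : a ∈ Q
  aR : a ∉ R
  a2 : a * a = 1
  bQ : a' ∈ Q
  bR : a' ∉ R
  b2 : a' * a' = 1
  sp2 : ∀ T : Subgroup G, R ≤ T → T ≤ Q → a ∈ T → a' ∈ T → P ⊓ C1 a ≤ Ns T → P ⊓ C1 a' ≤ Ns T →
    T = Q
  four : ∃ b, Cn P a b ∧ Cn P a (a * b)
  wP : w ∈ P
  w2 : w * w = 1
  wn : ∃ p ∈ P, ⁅w, p⁆ ∉ Q
  ch : ∀ v ∈ P, Cn L z v → ∀ q ∈ Q, ∀ b ∈ Q, b ∉ R → b⁻¹ * ⁅v, q⁆ ∈ R → b * b = 1 ∧ Ch Q R b v
  ex2 : ∀ b ∈ Q, b ∉ R → b * b = 1 → ∃ v ∈ P, Cn L z v ∧ ∃ q ∈ Q, b⁻¹ * ⁅v, q⁆ ∈ R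
  same : ∀ v ∈ P, Cn L z v → ∀ l ∈ L, l * z * l⁻¹ ∈ P → ∀ q ∈ Q, ∀ q' ∈ Q, ⁅v, q⁆ ∉ R →
    ⁅v, q⁆⁻¹ * ⁅l * z * l⁻¹, q'⁆ ∈ R → ∃ y ∈ Q, y * v * y⁻¹ ∈ cj l R
  conn : ∀ H : Subgroup G, z ∈ H →
    (∀ d d', Cn L z d → Cn L z d' → Commute d d' → d ∈ H → d' ∈ H) → L ≤ H
  big : 2 ^ 15 ≤ Nat.card U
  cube : Nat.card L ≤ Nat.card U ^ 3

/-- The abstract end game. -/
structure FX (X L U P Q R : Subgroup G) (z a a' w t : G) : Prop extends FI L U P Q R z a a' w where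
  normal : X.Normal
  simple : IsSimpleGroup X
  perfX : ⁅X, X⁆ = X
  le : L ≤ X
  syl : IsSylowIn 2 U X
  two : ∀ g ∈ X ⊓ Ns L, Comp.Tw g → g ∈ L
  t2 : t * t = 1
  tM : t ∈ Ns L
  uq : Uq (Ns L) t
  cls : ∀ v ∈ L, v * v = 1 → ∃ l ∈ L, Commute t (l * v * l⁻¹)
  nsA : ∀ m ∈ Ns L, Cn L z (m * z * m⁻¹)
  nsa : ∀ m ∈ Ns L, Cn L a (m * a * m⁻¹)
  f8 : Ns L ⊓ C1 z ≤ Ns P ⊓ Ns Q
  tz : Commute t z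
  ta : Commute t a
  tb : Commute t a'
  ga : ∃ m ∈ L, m * t * m⁻¹ = t * a
  gb : ∃ m ∈ L, m * t * m⁻¹ = t * a'
  gw : ∃ m ∈ P, m * t * m⁻¹ = t * w

end Abstract

section Model

variable {G E M : Type*} [Group G] [Field E] [AddCommGroup M] [Module E M] {σ : E →+* E}

/-- All fixed vectors of `Γ` are isotropic. -/
def Alt (B : M →ₛₗ[σ] M →ₗ[E] E) (Γ : M ≃+ M) : Prop := ∀ x, Γ x = x → B x x = 0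

theorem Alt_eq_1' : type_of% @Alt.eq_1 := @Alt.eq_1

/-- A Sylow subgroup fixing `u` and stabilising the maximal subspace `W`. -/
structure MF (B : M →ₛₗ[σ] M →ₗ[E] E) (U : Subgroup (sIsom B)) (W : Submodule E M) (u : M) :
    Prop extends UM6.Mo B where
  syl : IsSylowIn 2 U ⊤
  mx : Mx B W
  mem : u ∈ W
  ne : u ≠ 0
  fx : U ≤ Fx B (E ∙ u)
  st : U ≤ St B W

variable {B : M →ₛₗ[σ] M →ₗ[E] E}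

/-- An involution `t` inducing the graph automorphism `Γ` on the unitary group. -/
structure UE (ψ : sIsom B →* G) (t : G) (α : MulAut (sIsom B)) (Γ : M ≃+ M) : Prop
    extends UM6.Mod ψ where
  t2 : t * t = 1
  mp : Mp ψ ψ t α
  semi : Semi α Γ (sg σ)
  nL : C1 t ≤ Ns ψ.range
  odd : Odd (Nat.card (Cs ψ.range))
  rank : ∀ A : Subgroup G, (∀ a ∈ A, a * a = 1) → A ≤ C1 t →
    Nat.card A ≤ 2 * qn σ ^ (kk E M * (kk E M + 1) / 2)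
  alt : Even (finrank E M) → Alt B Γ ∧ ∀ u, Γ u = u → u ≠ 0 → ¬ IsConj t (t * ψ (tT B u 1))
  fr : ∃ e f, Fr3 B e f ∧ ∀ i, Γ (e i) = e i ∧ Γ (f i) = f i

end Model

end Cfsg.Lib.SUE6
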