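import Cfsg.Agent.SUE6.Defs
import Cfsg.Agent.AE.F2

/-!
# The unitary end game: fusion and strong closure
-/

set_option autoImplicit false
set_option linter.unusedSectionVars false

namespace Cfsg.Lib.SUE6

open Subgroup Cfsg.Lib.Trans Cfsg.Lib.Gold
open Cfsg.Lib.SG2 (Uq)
open Cfsg.Lib.AE (Cn)
open Cfsg.Lib.AE.F2 (comm_mem_left comm_mem_right)
open scoped commutatorElement

variable {G : Type*} [Group G] [Finite G] {X L U P Q R : Subgroup G} {z a a' w t : G}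

/-- All elements of the coset `v R` are conjugate to `a`. -/
def As (X R : Subgroup G) (a v : G) : Prop := ∀ r ∈ R, Cn X a (v * r)

theorem As_eq_1' : type_of% @As.eq_1 := @As.eq_1

theorem As.conj {v c : G} (h : As X R a v) (hc : c ∈ X ⊓ Ns R) : As X R a (c * v * c⁻¹) :=
  fun r hr => by
    have := (h _ (mem_normalizer_conj' hc.2 hr)).conj hc.1
    rwa [show c * (v * (c⁻¹ * r * c)) * c⁻¹ = c * v * c⁻¹ * r by group] at this

namespace FX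

variable (h : FX X L U P Q R z a a' w t)
include h

theorem UL : U ≤ L := h.UP.trans h.PL
theorem QP : Q ≤ P := h.QU.trans h.UP
theorem RU : R ≤ U := h.RQ.trans h.QU
theorem QL : Q ≤ L := h.QU.trans h.UL
theorem zL : z ∈ L := h.UL (h.RU h.zR)
theorem z2 : z * z = 1 := h.el z h.zR
theorem CY : X ⊓ Cs R ≤ X ⊓ C1 z := inf_le_inf_left _ (Cs_le_C1 h.zR)
theorem CN : X ⊓ Cs R ≤ X ⊓ Ns R := (fun _ => inf_le_inf_left _ Cs_le_Ns) h
theorem PC : P ≤ X ⊓ Cs R := le_inf (h.PL.trans h.le) h.PR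
theorem UC : U ≤ X ⊓ Cs R := h.UP.trans h.PC
theorem QC : Q ≤ X ⊓ Cs R := h.QP.trans h.PC
theorem sylC : IsSylowIn 2 U (X ⊓ Cs R) := h.syl.mono h.UC inf_le_left
theorem sylY : IsSylowIn 2 U (X ⊓ C1 z) := h.syl.mono (h.UC.trans h.CY) inf_le_left
theorem twoQ : IsPGroup 2 Q := h.syl.isPGroup.to_le h.QU
theorem twoR : IsPGroup 2 R := h.syl.isPGroup.to_le h.RU
theorem tQ : t ∈ Ns Q := (h.f8 ⟨h.tM, mem_C1.2 h.tz⟩).2

theorem nX (g : G) : g ∈ Ns X := by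
  have := h.normal
  exact mem_Ns_iff.2 (cj_eq_of_normal g X)

theorem nR {g : G} (hg : g ∈ Ns Q) : g ∈ Ns R := by
  rw [mem_Ns_iff, ← h.cQ, cj_commutator, mem_Ns_iff.1 hg]

theorem tR : t ∈ Ns R := h.nR h.tQ

theorem fus {x v : G} (x2 : x * x = 1) (tx : Commute t x)
    (ns : ∀ m ∈ Ns L, Cn L x (m * x * m⁻¹)) (hv : v ∈ L) (c : Cn X x v) : Cn L x v := by
  obtain ⟨l, hl, h1⟩ := h.cls v hv (c.sq x2)
  obtain ⟨g, -, rfl⟩ := c
  have e : l * (g * x * g⁻¹) * l⁻¹ = l * g * x * (l * g)⁻¹ := by group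
  obtain ⟨m, hm, h2⟩ := h.uq.fus h.tM h.t2 tx (e ▸ h1)
  exact (ns m hm).trans (Cn.symm ⟨l, hl, e.trans h2.symm⟩)

theorem fz {v : G} (hv : v ∈ L) (c : Cn X z v) : Cn L z v := h.fus h.z2 h.tz h.nsA hv c

theorem fa {v : G} (hv : v ∈ L) (c : Cn X a v) : Cn L a v := h.fus h.a2 h.ta h.nsa hv c

theorem scR : ∀ r ∈ R, ∀ g ∈ X ⊓ C1 z, g * r * g⁻¹ ∈ U → g * r * g⁻¹ ∈ R := fun r hr g hg hv => by
  have gz : g * z * g⁻¹ = z := by rw [mem_C1.1 hg.2, mul_inv_cancel_right]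
  by_contra hn
  have c1 := h.rA r hr fun e => hn (by simp [e])
  have c2 := h.rA _ (mul_mem hr h.zR) fun e => hn (by
    rw [mul_right_cancel (e.trans h.z2.symm), gz]; exact h.zR)
  refine hn (h.k3z _ (h.UP hv) (h.fz (h.UL hv) ((c1.mono h.le).conj hg.1))
    (h.fz (mul_mem (h.UL hv) h.zL) ?_))
  have := (c2.mono h.le).conj hg.1
  rwa [← conj_mul, gz] at this

theorem as_of {v : G} (hv : v ∈ Q) (hn : v ∉ R) (c : Cn L a v) : As X R a v := fun r hr => by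
  obtain ⟨b, hb, e⟩ := h.fq v hv hn r hr
  exact e ▸ (c.mono h.le).conj (h.le (h.QL hb))

theorem mem_Q {c v : G} (hc : c ∈ X ⊓ Ns R) (hv : v ∈ cj c U) (h1 : As X R a v) : v ∈ cj c Q := by
  rw [← inv_inv c, mem_cj_inv] at hv ⊢
  exact h.k3a _ (h.UP hv) fun r hr =>
    h.fa (mul_mem (h.UL hv) (h.UL (h.RU hr))) (h1.conj (inv_mem hc) r hr)

theorem gQ : Q ≤ closure {v | v ∈ Q ∧ As X R a v} ⊔ R := by
  refine ((h.irr _ le_sup_right (sup_le ((closure_le _).2 fun v hv => hv.1) h.RQ)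
    fun p hp => mem_normalizer_of_cj_le ?_).resolve_left fun e => h.aR (e.le (mem_sup_left
      (Subgroup.subset_closure (And.intro h.aQ (h.as_of h.aQ h.aR (Cn.refl _ _))))))).ge
  rw [cj_sup, cj_eq_of_mem_centralizer (h.PR hp)]
  refine sup_le_sup_right (cj_le_iff_le_cj_inv.2 ((closure_le _).2 fun v hv => mem_cj_inv.2 ?_)) _
  exact Subgroup.subset_closure ⟨mem_normalizer_conj (h.PQ hp) hv.1, hv.2.conj (h.CN (h.PC hp))⟩

theorem wc {g : G} (hg : g ∈ X ⊓ Ns R) (e : cj g Q ≤ U) : cj g Q = Q :=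
  cj_eq_of_mem_normalizer (mem_normalizer_of_cj_le (cj_le_iff_le_cj_inv.2 (h.gQ.trans (sup_le
    ((closure_le _).2 fun v hv => h.mem_Q (inv_mem hg) (mem_cj_inv.2 (cj_le_iff.1 e v hv.1)) hv.2)
    fun _ hr => mem_cj_inv.2 (h.RQ (mem_normalizer_conj hg.2 hr))))))

theorem wc' {g c : G} (hg : g ∈ X ⊓ Cs R) (hc : c ∈ X ⊓ Cs R) (e : cj g Q ≤ cj c U) :
    cj g Q = cj c Q := by
  have := h.wc (h.CN (mul_mem (inv_mem hc) hg)) (by rwa [cj_mul, cj_inv_le_iff_le_cj])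
  rwa [cj_mul, cj_eq_iff_eq_cj_inv, inv_inv] at this

theorem comm_cj {g x y : G} (hg : g ∈ Cs R) (ha : x ∈ cj g Q) (hb : y ∈ cj g Q) : ⁅x, y⁆ ∈ R := by
  have := commutator_mem_commutator ha hb
  rwa [← cj_commutator, h.cQ, cj_eq_of_mem_centralizer hg] at this

/-- An element of the class set normalising `D` is moved into a conjugate of `Q` over `D`. -/
theorem key {g x : G} {D : Subgroup G} (hg : g ∈ X ⊓ Cs R) (h1 : R ≤ D) (h2 : D ≤ cj g Q)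
    (hx : x ∈ Q) (hn : cj x D ≤ D) (c1 : As X R a x) :
    ∃ n ∈ X ⊓ Cs R, n ∈ Ns D ∧ n * x * n⁻¹ ∈ cj g Q := by
  obtain ⟨T, hT, h3⟩ := exists_isSylowIn_ge (H := (X ⊓ Cs R) ⊓ Ns D)
    (isPGroup_cj h.twoQ g) (le_inf (cj_le_of_mem_of_le hg h.QC)
      fun b hb => Comp.mem_Ns_of fun d hd => by
        simpa [commutatorElement_def] using mul_mem (h1 (h.comm_cj hg.2 hb (h2 hd))) hd)
  obtain ⟨c, hc, h4⟩ := h.sylC.exists_cj_le hT.isPGroup (hT.le.trans inf_le_left)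
  rw [cj_le_iff_le_cj_inv] at h4
  obtain ⟨n, hn', h5⟩ := hT.exists_cj_le (Comp.Tw.of_mem h.twoQ hx).isPGroup
    (zpowers_le.2 ⟨h.QC hx, mem_normalizer_of_cj_le hn⟩)
  refine ⟨n, hn'.1, hn'.2, ?_⟩
  rw [h.wc' hg (inv_mem hc) (h3.trans h4)]
  exact h.mem_Q (inv_mem (h.CN hc)) (h4 (cj_le_iff.1 h5 x (mem_zpowers x))) (c1.conj (h.CN hn'.1))

theorem scQ : ∀ x ∈ Q, ∀ g ∈ X ⊓ Cs R, g * x * g⁻¹ ∈ U → g * x * g⁻¹ ∈ Q := fun x ha g hg hv => by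
  by_contra hn
  have v1 : g * x * g⁻¹ ∈ cj g Q := conj_mem_cj.2 ha
  have v2 : g * x * g⁻¹ * (g * x * g⁻¹) ∈ R := by
    rw [conj_mul]; exact mem_normalizer_conj (Cs_le_Ns hg.2) (h.sQ x ha)
  generalize g * x * g⁻¹ = v at hv hn v1 v2
  obtain ⟨b, hb, d, hd, bR, dR, b1, d1, e1⟩ := h.f6 v (h.UP hv) hn v2
  have QR : ∀ x ∈ Q, cj x R = R := fun x hx => cj_eq_of_mem_centralizer (h.QC hx).2
  have RB : ∀ g ∈ X ⊓ Cs R, R ≤ cj g Q := fun g hg =>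
    (cj_eq_of_mem_centralizer hg.2).ge.trans (cj_mono g h.RQ)
  have e2 : ⁅b, v⁆ ∈ Q := comm_mem_left hb (h.PQ (h.UP hv))
  have e3 : d * v * d⁻¹ = ⁅b, v⁆ * ⁅b, v⁆ * v := by
    have k1 := mem_Cs.1 (h.UC hv).2 _ e1
    have k2 := mem_Cs.1 (h.QC hb).2 _ v2
    calc _ = ⁅b, v⁆ * (d⁻¹ * ⁅b, v⁆)⁻¹ * v * (d⁻¹ * ⁅b, v⁆) * ⁅b, v⁆⁻¹ := by group
      _ = b * v * b⁻¹ * v⁻¹ * (v * v * b) * v⁻¹ * b⁻¹ := by
        rw [mul_assoc _ v, ← k1, commutatorElement_def]; group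
      _ = b * v * b⁻¹ * v⁻¹ * b * v * b⁻¹ := by rw [k2]; group
      _ = _ := by rw [commutatorElement_def]; group
  obtain ⟨m, hm, m1, m2⟩ := h.key (D := R ⊔ zpowers v) hg le_sup_left
    (sup_le (RB g hg) (zpowers_le.2 v1)) hd (by
      rw [cj_sup, QR d hd, cj_zpowers, e3]
      exact sup_le le_sup_left (zpowers_le.2 (mul_mem_sup (h.sQ _ e2) (mem_zpowers v))))
    (h.as_of hd dR d1)
  have hg' := mul_mem (inv_mem hm) hg
  have hD : R ⊔ zpowers v ⊔ zpowers d ≤ cj (m⁻¹ * g) Q := by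
    refine sup_le (sup_le (RB _ hg') ?_) ?_ <;> rw [zpowers_le, cj_mul, mem_cj_inv]
    exacts [sup_le (RB g hg) (zpowers_le.2 v1)
      (mem_normalizer_conj m1 (mem_sup_right (mem_zpowers v))), m2]
  have vD : v ∈ R ⊔ zpowers v ⊔ zpowers d := mem_sup_left (mem_sup_right (mem_zpowers v))
  have dD : d ∈ R ⊔ zpowers v ⊔ zpowers d := mem_sup_right (mem_zpowers d)
  have RD : R ≤ R ⊔ zpowers v ⊔ zpowers d := le_sup_left.trans le_sup_left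
  obtain ⟨n, hn, n1, n2⟩ := h.key hg' RD hD hb (by
      rw [cj_sup, cj_sup, QR b hb, cj_zpowers, cj_zpowers]
      refine sup_le (sup_le RD (zpowers_le.2 ?_)) (zpowers_le.2 ?_)
      · simpa [commutatorElement_def] using mul_mem (mul_mem dD (RD e1)) vD
      · simpa [commutatorElement_def] using
          mul_mem (RD (h.cQ.le (commutator_mem_commutator hb hd))) dD) (h.as_of hb bR b1)
  have := mem_normalizer_conj' (Cs_le_Ns hn.2)
    (h.comm_cj hg'.2 n2 (hD (mem_normalizer_conj n1 vD)))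
  rw [show n⁻¹ * ⁅n * b * n⁻¹, n * v * n⁻¹⁆ * n = ⁅b, v⁆ by
    simp only [commutatorElement_def]; group] at this
  exact dR (inv_mem_iff.1 ((mul_mem_cancel_right this).1 e1))

theorem nu {N : Subgroup G} (hN : P ≤ Ns N) (ha : a ∈ N) : Q ≤ N := by
  have h1 : R ≤ N ⊓ Q := fun r hr => by
    obtain ⟨b, hb, e⟩ := h.fq a h.aQ h.aR r hr
    exact ⟨(mul_mem_cancel_left ha).1 (e ▸ mem_normalizer_conj (hN (h.QP hb)) ha), h.RQ hr⟩
  exact ((h.irr _ h1 inf_le_right (le_Ns_inf hN h.PQ)).resolve_left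
    fun e => h.aR (e.le ⟨ha, h.aQ⟩)).ge.trans inf_le_left

theorem nw {N : Subgroup G} (hN : P ≤ Ns N) (hQ : Q ≤ N) (hw : w ∈ N) : P ≤ N := by
  obtain ⟨p, hp, e⟩ := h.wn
  exact ((h.qs _ (le_inf hQ h.QP) inf_le_right (le_Ns_inf hN le_normalizer)).resolve_left
    fun k => e (k (commutator_mem_commutator ⟨hw, h.wP⟩ hp))).ge.trans inf_le_left

theorem f10 {N : Subgroup G} (hQ : Q ≤ N) (hP : N ≤ P) (hN : P ≤ Ns N) (e : N ⊓ U = Q) :
    ⁅N, P⁆ ≤ Q := by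
  refine (h.qs N hQ hP hN).resolve_right fun k => ?_
  obtain ⟨p, hp, e1⟩ := h.wn
  obtain ⟨c, hc, e2⟩ := (h.sylL.mono h.UP h.PL).exists_cj_le (Comp.Tw.of_sq h.w2).isPGroup
    (zpowers_le.2 h.wP)
  rw [k, inf_eq_right.2 h.UP] at e
  have := mem_normalizer_conj' (h.PQ hc) (e.le (cj_le_iff.1 e2 w (mem_zpowers w)))
  rw [show c⁻¹ * (c * w * c⁻¹) * c = w by group] at this
  exact e1 (comm_mem_left this (h.PQ hp))

theorem cPQ : P ⊓ Cs Q ≤ R := fun v hv => by_contra fun hn => by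
  obtain ⟨b, hb, e⟩ := h.fq v (h.cQR v hv.1 fun q hq => by
    rw [commutatorElement_eq_one_iff_mul_comm.2 (mem_Cs.1 hv.2 q hq).symm]
    exact one_mem _) hn z h.zR
  rw [mem_Cs.1 hv.2 b hb, mul_inv_cancel_right] at e
  exact h.z1 (mul_left_cancel (e.symm.trans (mul_one v).symm))

end FX

end Cfsg.Lib.SUE6
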