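import Cfsg.Agent.SUE6.F1

/-!
# The unitary end game: the centraliser of `R` normalises `Q`
-/

set_option autoImplicit false
set_option linter.unusedSectionVars false

namespace Cfsg.Lib.SUE6

open Subgroup Cfsg.Lib.Trans Cfsg.Lib.Gold
open Cfsg.Lib.SG2 Cfsg.Lib.SG2.Sec
open Cfsg.Lib.AE (Cn)
open Cfsg.Lib.AE.F2 (comm_mem_left comm_mem_right)
open scoped commutatorElement

variable {G : Type*} [Group G] [Finite G]

namespace F2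

/-- The stabiliser of the coset `x R`. -/
def Yx (K R : Subgroup G) (x : G) : Subgroup G where
  carrier := {k | k ∈ K ⊓ Ns R ∧ ⁅k, x⁆ ∈ R}
  one_mem' := ⟨one_mem _, by simp⟩
  mul_mem' {k l} hk hl := ⟨mul_mem hk.1 hl.1, by
    rw [show ⁅k * l, x⁆ = k * ⁅l, x⁆ * k⁻¹ * ⁅k, x⁆ by simp only [commutatorElement_def]; group]
    exact mul_mem (mem_normalizer_conj hk.1.2 hl.2) hk.2⟩
  inv_mem' {k} hk := ⟨inv_mem hk.1, by
    rw [show ⁅k⁻¹, x⁆ = k⁻¹ * ⁅k, x⁆⁻¹ * k by simp only [commutatorElement_def]; group]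
    exact mem_normalizer_conj' hk.1.2 (inv_mem hk.2)⟩

theorem Yx_eq_1' : type_of% @Yx.eq_1 := @Yx.eq_1

theorem mem_Yx {K R : Subgroup G} {x k : G} : k ∈ Yx K R x ↔ k ∈ K ⊓ Ns R ∧ ⁅k, x⁆ ∈ R := Iff.rfl

theorem conj_Yx {K R : Subgroup G} {x k p : G} (h1 : p ∈ Ns K) (h2 : p ∈ Ns R) (hk : k ∈ Yx K R x) :
    p * k * p⁻¹ ∈ Yx K R (p * x * p⁻¹) :=
  ⟨⟨mem_normalizer_conj h1 hk.1.1, (Ns R).mul_mem (mul_mem h2 hk.1.2) (inv_mem h2)⟩, by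
    rw [← conjugate_commutatorElement]; exact mem_normalizer_conj h2 hk.2⟩

theorem Ns_Yx {K R : Subgroup G} {x p : G} (h1 : p ∈ Ns K) (h2 : p ∈ Ns R) (h3 : p * x = x * p) :
    p ∈ Ns (Yx K R x) := Comp.mem_Ns_of fun k hk => by
  have := conj_Yx h1 h2 hk
  rwa [h3, mul_inv_cancel_right] at this

theorem burn {A D K : Subgroup G} (h1 : IsSylowIn 2 A K) (hDA : D ≤ A) (hD : K ≤ Cs D)
    (hc : ∀ k ∈ K ⊓ Ns A, ∀ a ∈ A, ⁅k, a⁆ ∈ D) : K ≤ Oc K ⊔ A := by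
  obtain ⟨Q, _, _, π, hs, hk⟩ := exists_quot (hD.trans Cs_le_Ns)
  have h2 := burn_core (im_top hs ▸ im_sylow (π := π) h1 le_rfl) fun q hq => by
    obtain ⟨k, rfl⟩ := hs q
    rw [mem_Cs]
    rintro _ ⟨a, ha, rfl⟩
    rw [eq_comm, ← commutatorElement_eq_one_iff_mul_comm, ← map_commutatorElement, hk]
    exact hc _ ⟨k.2, Ns_of_im hk hDA h1.le hq⟩ _ ha
  have h3 := pre_odd hk (le_inf (hDA.trans h1.le) (le_Cs_comm.1 hD)) (h1.isPGroup.to_le hDA)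
  intro k hk'
  obtain ⟨o, ho, _, ⟨a, ha, rfl⟩, e⟩ := mem_sup_of_normal_left.1 (h2 (mem_top (π ⟨k, hk'⟩)))
  have h5 : (⟨k, hk'⟩ * a⁻¹ : K).1 ∈ pre π (pPrimeCore 2 Q) :=
    mem_pre.2 (by rwa [map_mul, map_inv, ← e, mul_inv_cancel_right])
  have h6 := (h3.trans (sup_le (hDA.trans le_sup_right) le_sup_left) : _ ≤ Oc K ⊔ A) h5
  exact (mul_mem_cancel_right (inv_mem (mem_sup_right (mem_subgroupOf.1 ha)))).1 h6

omit [Finite G] in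
theorem inv_xy {x y : G} (x2 : x * x = 1) (y2 : y * y = 1) : x * (x * y) * x⁻¹ = (x * y)⁻¹ := by
  rw [← mul_assoc, x2, one_mul, mul_inv_rev, inv_eq_of_mul_eq_one_right y2]

theorem dih {x y : G} (x2 : x * x = 1) (y2 : y * y = 1) : (∃ g, g * x * g⁻¹ = y) ∨
    ∃ v, v ≠ 1 ∧ v * v = 1 ∧ Commute v x ∧ Commute y v := by
  rcases Nat.even_or_odd (orderOf (x * y)) with ⟨n, e⟩ | ho
  · have h1 : (x * y) ^ n * (x * y) ^ n = 1 := by rw [← pow_add, ← e, pow_orderOf_eq_one]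
    have h2 : Commute ((x * y) ^ n) x := by
      have : x * (x * y) ^ n * x⁻¹ = (x * y) ^ n := by
        rw [← conj_pow, inv_xy x2 y2, inv_pow, inv_eq_of_mul_eq_one_right h1]
      exact (mul_inv_eq_iff_eq_mul.1 this).symm
    have := orderOf_pos (x * y)
    refine Or.inr ⟨_, pow_ne_one_of_lt_orderOf (by omega) (by omega), h1, h2, ?_⟩
    have h3 := h2.mul_right ((Commute.refl (x * y)).pow_left n)
    rw [← mul_assoc, x2, one_mul] at h3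
    exact h3.symm
  · exact Or.inl ((exists_zpow_conj_of_odd_mul x2 y2 ho).elim fun _ e => ⟨_, e⟩)

omit [Finite G] in
theorem four {x y c : G} (x2 : x * x = 1) (y2 : y * y = 1) (e : x * y = y * x)
    (hc : c ∈ closure {x, y}) : c = 1 ∨ c = x ∨ c = y ∨ c = x * y := by
  have a1 : ∀ s, x * (x * s) = s := fun s => by rw [← mul_assoc, x2, one_mul]
  have a2 : y * (x * y) = x := by rw [e, ← mul_assoc, y2, one_mul]
  have a3 : x * y * x = y := by rw [e, mul_assoc, x2, mul_one]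
  induction hc using closure_induction with
  | mem s hs => rcases hs with rfl | rfl <;> simp
  | one => simp
  | mul s r _ _ hs hr =>
    rcases hs with rfl | rfl | rfl | rfl <;> rcases hr with rfl | rfl | rfl | rfl <;>
      simp [x2, y2, a1, a2, a3, ← e, mul_assoc]
  | inv s _ hs =>
    rcases hs with rfl | rfl | rfl | rfl
    · simp
    · simp [inv_eq_of_mul_eq_one_right x2]
    · simp [inv_eq_of_mul_eq_one_right y2]
    · simp [inv_eq_of_mul_eq_one_right x2, inv_eq_of_mul_eq_one_right y2, e]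

end F2

open F2

variable {X L U P Q R : Subgroup G} {z a a' w t : G}

theorem FX.ok (h : FX X L U P Q R z a a' w t) {O : Subgroup G} (hO : Odd (Nat.card O))
    (hz : O ≤ C1 z) (ht : t ∈ Ns O) {u : G} (uQ : u ∈ Q) (hu : u ∈ Ns O) (u2 : u * u = 1)
    (g : ∃ m ∈ L, m * t * m⁻¹ = t * u) : u ∈ Cs O := by
  obtain ⟨m, hm, e⟩ := g
  refine h.uq.okill h.tM h.t2 hO ht hu u2 (le_normalizer hm) e fun o ho => ?_
  have h2 : ⁅o, u⁆ ∈ Q ⊓ O :=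
    ⟨comm_mem_right (h.f8 ⟨ho.2, hz ho.1⟩).2 uQ, comm_mem_left ho.1 hu⟩
  rw [inf_eq_bot_of_odd h.twoQ hO, mem_bot] at h2
  exact commutatorElement_eq_one_iff_commute.1 h2

/-- The normal closure of `Q` in the centraliser of `R`. -/
structure KK (X L U P Q R : Subgroup G) (z a a' w t : G) (K : Subgroup G) : Prop
    extends FX X L U P Q R z a a' w t where
  QK : Q ≤ K
  KC : K ≤ X ⊓ Cs R
  CK : X ⊓ Cs R ≤ Ns K
  KU : K ⊓ U = Q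
  tK : t ∈ Ns K

theorem FX.kk (h : FX X L U P Q R z a a' w t) : KK X L U P Q R z a a' w t (ncl Q (X ⊓ Cs R)) := by
  obtain ⟨K0, k1, -, k3, k4⟩ := gbq h.sylC h.RQ h.QU (inf_le_right.trans Cs_le_Ns)
    (fun a ha b hb => h.cQ ▸ commutator_mem_commutator ha hb) h.scQ
  refine ⟨h, le_ncl', ncl_le h.QC, le_Ns_ncl, h.f7Q _ (le_inf le_ncl' h.QU) inf_le_right
    fun v hv v2 => k4 v ⟨ncl_le_of_le_Ns k1 k3 hv.1, hv.2⟩ (by rw [v2]; exact one_mem _), ?_⟩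
  rw [mem_Ns_iff, cj_ncl, mem_Ns_iff.1 (mem_Ns_inf (h.nX t) (mem_Ns_Cs h.tR)), mem_Ns_iff.1 h.tQ]

namespace KK

variable {K : Subgroup G} (h : KK X L U P Q R z a a' w t K)
include h

theorem PK : P ≤ Ns K := h.PC.trans h.CK

theorem sylK : IsSylowIn 2 Q K := by
  have h1 := h.sylC.inf_normal_of_le h.CK h.KC
  rwa [inf_comm, h.KU] at h1

theorem nk {n p : G} (hn : n ∈ K ⊓ Ns Q) (hp : p ∈ P) : ⁅n, p⁆ ∈ Q := by
  have nQ : ∀ g ∈ Ns Q, g ∈ Ns (Ns Q) := fun g hg => le_normalizer hg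
  have tN : t ∈ Ns (K ⊓ Ns Q) := mem_Ns_inf h.tK (nQ t h.tQ)
  have PN : P ≤ Ns (K ⊓ Ns Q) := fun p hp => mem_Ns_inf (h.PK hp) (nQ p (h.PQ hp))
  obtain ⟨Z, _, _, π, hs, hk⟩ := exists_quot (Z := Ns Q) (D := Q) le_rfl
  have QM : Q ≤ Ns L := h.QL.trans le_normalizer
  have hO : Odd (Nat.card (im π (K ⊓ Ns Q))) := by
    rw [card_im hk inf_le_right, ← Nat.not_even_iff_odd, even_iff_two_dvd]
    exact (h.sylK.mono (le_inf h.QK le_normalizer) inf_le_left).not_dvd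
  obtain ⟨m, hm, e⟩ := h.gw
  have w2 : π ⟨w, h.PQ h.wP⟩ * π ⟨w, h.PQ h.wP⟩ = 1 := by
    rw [← map_mul]
    exact (hk _).2 (by simp [h.w2])
  have hw : π ⟨w, h.PQ h.wP⟩ ∈ Cs (im π (K ⊓ Ns Q)) := by
    refine Uq.okill (M := im π (Ns L)) (t := π ⟨t, h.tQ⟩) ?_ (mk_mem_im h.tM) ?_ hO (im_Ns tN)
      (im_Ns (PN h.wP)) w2 (m := π ⟨m, h.PQ hm⟩) (mk_mem_im (le_normalizer (h.PL hm))) ?_ ?_
    · intro g hg
      obtain ⟨g, rfl⟩ := hs g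
      rw [← map_mul, ← map_inv, ← map_mul] at hg
      exact mk_mem_im (h.uq g.1 (mem_of_im hk QM hg))
    · rw [← map_mul]
      exact (hk _).2 (by simp [h.t2])
    · rw [← map_mul, ← map_inv, ← map_mul, ← map_mul]
      exact congrArg π (Subtype.ext e)
    · rintro _ ⟨ho, hoM⟩
      obtain ⟨o, hoN, rfl⟩ := mem_im.1 ho
      have oM : o.1 ∈ Ns L := mem_of_im hk QM hoM
      have oP : o.1 ∈ Ns P := (h.f8 ⟨oM, (h.CY (h.KC hoN.1)).2⟩).1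
      have c1 : ⁅o.1, w⁆ ∈ K ⊓ P := ⟨comm_mem_left hoN.1 (h.PK h.wP), comm_mem_right oP h.wP⟩
      have c2 : ⁅K ⊓ P, P⁆ ≤ Q := h.f10 (le_inf h.QK h.QP) inf_le_right
        (le_Ns_inf h.PK le_normalizer) (by rw [inf_assoc, inf_eq_right.2 h.UP, h.KU])
      have c3 : Commute (π ⁅o, ⟨w, h.PQ h.wP⟩⁆) (π ⟨w, h.PQ h.wP⟩) := by
        rw [← commutatorElement_eq_one_iff_commute, ← map_commutatorElement]
        exact (hk _).2 (c2 (commutator_mem_commutator c1 h.wP))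
      have c4 : π ⁅o, ⟨w, h.PQ h.wP⟩⁆ ∈ im π (K ⊓ Ns Q) := mk_mem_im ⟨c1.1, h.PQ c1.2⟩
      rw [map_commutatorElement] at c3 c4
      generalize π ⟨w, h.PQ h.wP⟩ = W at c3 c4 w2 ⊢
      generalize π o = a at c3 c4 ⊢
      refine commutatorElement_eq_one_iff_commute.1
        (eq_one_of_sq_of_odd ?_ (Gold.odd_orderOf_of_mem c4 hO))
      calc ⁅a, W⁆ * ⁅a, W⁆ = ⁅a, W⁆ * ⁅a, W⁆ * (W * W) := by rw [w2, mul_one]
        _ = ⁅a, W⁆ * (⁅a, W⁆ * W) * W := by simp only [mul_assoc]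
        _ = ⁅a, W⁆ * (W * ⁅a, W⁆) * W := by rw [c3.eq]
        _ = a * (W * W) * a⁻¹ := by simp only [commutatorElement_def]; group
        _ = 1 := by rw [w2]; simp
  have hP : P ≤ pre π (Cs (im π (K ⊓ Ns Q))) :=
    h.nw (fun p hp => pre_Ns (x := ⟨p, h.PQ hp⟩) (mem_Ns_Cs (im_Ns (PN hp))))
      (le_pre_ker hk le_normalizer) (mem_pre.2 hw)
  have h1 := mem_Cs.1 ((mem_pre (x := ⟨p, h.PQ hp⟩)).1 (hP hp)) (π ⟨n, hn.2⟩) (mk_mem_im hn)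
  refine (hk ⁅(⟨n, hn.2⟩ : Ns Q), ⟨p, h.PQ hp⟩⁆).1 ?_
  rw [map_commutatorElement]
  exact commutatorElement_eq_one_iff_mul_comm.2 h1

theorem QY {x : G} (hx : x ∈ Q) : Q ≤ Yx K R x := fun _ hq =>
  ⟨⟨h.QK hq, Cs_le_Ns (h.QC hq).2⟩, h.cQ.le (commutator_mem_commutator hq hx)⟩

/-- The normaliser of `Q` in `K` acts semiregularly on `Q / R`. -/
theorem semi {n x : G} (hn : n ∈ K ⊓ Ns Q) (hx : x ∈ Q) (xR : x ∉ R) (e : ⁅n, x⁆ ∈ R) :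
    ∀ q ∈ Q, ⁅n, q⁆ ∈ R := fun q hq => by
  have sw : ∀ {y : G}, ⁅y, n⁆ ∈ R ↔ ⁅n, y⁆ ∈ R := by
    intro y; rw [← commutatorElement_inv, inv_mem_iff]
  have QN : Q ≤ Ns R := fun y hy => Cs_le_Ns (h.QC hy).2
  have h1 := (h.irr (Yx Q R n) (fun r hr => ⟨⟨h.RQ hr, QN (h.RQ hr)⟩,
    comm_mem_left hr (Cs_le_Ns (h.KC hn.1).2)⟩) (fun y hy => hy.1.1) fun p hp =>
      Comp.mem_Ns_of fun y hy => ?_).resolve_left fun k => xR (k.le ⟨⟨hx, QN hx⟩, sw.2 e⟩)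
  · exact sw.1 (h1.ge hq).2
  · have h2 := conj_Yx (h.PQ hp) (Cs_le_Ns (h.PR hp)) hy
    refine ⟨h2.1, ?_⟩
    have h3 := h.cQ.le (commutator_mem_commutator h2.1.1 (h.nk hn hp))
    have h4 := mul_mem h3 (mem_normalizer_conj (QN (h.nk hn hp)) h2.2)
    rwa [show ⁅p * y * p⁻¹, ⁅n, p⁆⁆ * (⁅n, p⁆ * ⁅p * y * p⁻¹, p * n * p⁻¹⁆ * ⁅n, p⁆⁻¹) =
      ⁅p * y * p⁻¹, n⁆ by simp only [commutatorElement_def]; group] at h4

theorem YK {x : G} : Yx K R x ≤ K := fun _ hy => (fun _ => hy.1.1) h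

theorem YO {x : G} (hx : x ∈ Q) (xR : x ∉ R) : Yx K R x ≤ Oc (Yx K R x) ⊔ Q :=
  burn (h.sylK.mono (h.QY hx) h.YK) h.RQ (h.YK.trans (h.KC.trans inf_le_right))
    fun _ hk => h.semi ⟨hk.1.1.1, hk.2⟩ hx xR hk.1.2

theorem le_O {x : G} (hx : x ∈ Q) (xR : x ∉ R) {D : Subgroup G} (hD : Odd (Nat.card D))
    (h1 : D ≤ Yx K R x) (h2 : Q ≤ Ns D) : D ≤ Oc (Yx K R x) :=
  le_sup_right.trans (le_Oc_of_le_Ns (sup_le Oc_le h1) ((h.YO hx xR).trans (sup_le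
    (le_sup_left.trans le_normalizer) (le_Ns_sup ((h.QY hx).trans le_Ns_Oc_self) h2)))
    (odd_card_sup odd_card_Oc hD (h1.trans le_Ns_Oc_self)))

theorem O_le {x y : G} (hx : x ∈ Q) (tx : Commute t x) (hy : y ∈ Q) (y2 : y * y = 1)
    (g : ∃ m ∈ L, m * t * m⁻¹ = t * y) : y ∈ Cs (Oc (Yx K R x)) :=
  h.ok odd_card_Oc (Oc_le.trans (h.YK.trans (h.KC.trans (h.CY.trans inf_le_right))))
    (mem_Ns_Oc (Ns_Yx h.tK h.tR tx)) hy (le_Ns_Oc_self (h.QY hx hy)) y2 g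

theorem O_le' {x y : G} (hx : x ∈ Q) (hy : y ∈ Q) (yR : y ∉ R) (e : y ∈ Cs (Oc (Yx K R x))) :
    Oc (Yx K R x) ≤ Oc (Yx K R y) :=
  h.le_O hy yR odd_card_Oc (fun o ho => ⟨(Oc_le ho).1, by
    rw [commutatorElement_eq_one_iff_mul_comm.2 (mem_Cs.1 e o ho)]; exact one_mem _⟩)
    ((h.QY hx).trans le_Ns_Oc_self)

theorem Ya : Yx K R a ≤ Ns Q := by
  have h1 := h.O_le h.aQ h.ta h.bQ h.b2 h.gb
  have e := (h.O_le' h.aQ h.bQ h.bR h1).antisymm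
    (h.O_le' h.bQ h.aQ h.aR (h.O_le h.bQ h.tb h.aQ h.a2 h.ga))
  have n : ∀ x, P ⊓ C1 x ≤ Ns (Q ⊓ Cs (Oc (Yx K R x))) := fun x p hp => mem_Ns_inf (h.PQ hp.1)
    (mem_Ns_Cs (mem_Ns_Oc (Ns_Yx (h.PK hp.1) (Cs_le_Ns (h.PR hp.1)) (mem_C1.1 hp.2))))
  have h2 := h.sp2 (Q ⊓ Cs (Oc (Yx K R a))) (le_inf h.RQ (le_Cs_comm.1
    (Oc_le.trans (h.YK.trans (h.KC.trans inf_le_right))))) inf_le_left
    ⟨h.aQ, h.O_le h.aQ h.ta h.aQ h.a2 h.ga⟩ ⟨h.bQ, h1⟩ (n a) (e ▸ n a')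
  exact (h.YO h.aQ h.aR).trans
    (sup_le ((le_Cs_comm.1 (h2.ge.trans inf_le_right)).trans Cs_le_Ns) le_normalizer)

theorem Yb {b : G} (c : Cn P a b) : Yx K R b ≤ Ns Q := fun k hk => by
  obtain ⟨p, hp, e⟩ := c.symm
  have := conj_Yx (h.PK hp) (Cs_le_Ns (h.PR hp)) hk
  rw [e] at this
  have h1 := mem_normalizer_conj' (le_normalizer (h.PQ hp)) (h.Ya this)
  rwa [show p⁻¹ * (p * k * p⁻¹) * p = k by group] at h1

theorem Yall {x : G} (hx : x ∈ Q) (xR : x ∉ R) : Yx K R x ≤ Ns Q := by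
  obtain ⟨b, c1, c2⟩ := h.four
  have a1 : a ≠ 1 := fun e => h.aR (e ▸ one_mem R)
  have b2 := c1.sq h.a2
  have e : a * b = b * a := by
    rw [← inv_eq_of_mul_eq_one_right (c2.sq h.a2), mul_inv_rev, inv_eq_of_mul_eq_one_right h.a2,
      inv_eq_of_mul_eq_one_right b2]
  have bQ : b ∈ Q := by
    obtain ⟨p, hp, rfl⟩ := c1
    exact mem_normalizer_conj (h.PQ hp) h.aQ
  refine (h.YO hx xR).trans (sup_le (Bender.le_of_four_group (Bender.orderOf_eq_two a1 h.a2)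
    (Bender.orderOf_eq_two (c1.ne_one a1) b2) (fun k => c2.ne_one a1 (k ▸ h.a2)) e odd_card_Oc
    (le_Ns_Oc_self (h.QY hx h.aQ)) (le_Ns_Oc_self (h.QY hx bQ)) fun c hc c2' o ho => ?_)
    le_normalizer)
  have k : o ∈ Yx K R c := ⟨(Oc_le ho.1).1, by
    rw [commutatorElement_eq_one_iff_mul_comm.2 (mem_C1.1 ho.2)]; exact one_mem _⟩
  rcases four h.a2 b2 e hc with rfl | rfl | rfl | rfl
  · simp at c2'
  exacts [h.Ya k, h.Yb c1 k, h.Yb c2 k]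

theorem two_mem {v : G} (hv : v ∈ K ⊓ Ns Q) (v2 : v * v ∈ R) : v ∈ Q := by
  have h1 : Comp.Tw v := ⟨2, by
    rw [show v ^ 2 ^ 2 = v * v * (v * v) by norm_num [pow_succ, mul_assoc], h.el _ v2]⟩
  exact (h.sylK.eq_of_le (Comp.isPGroup_sup h.twoQ h1.isPGroup (zpowers_le.2 hv.2)) le_sup_left
    (sup_le h.QK (zpowers_le.2 hv.1))).le (mem_sup_right (mem_zpowers v))

theorem conj_mem {y : G} (hy : y ∈ K) (y2 : y * y ∈ R) (y1 : y * y ≠ 1) : y ∈ Q := by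
  have KR : K ≤ Cs R := h.KC.trans inf_le_right
  obtain ⟨Z, _, _, π, hs, hk⟩ := exists_quot (KR.trans Cs_le_Ns)
  rcases dih (x := π ⟨a, h.QK h.aQ⟩) (y := π ⟨y, hy⟩)
    (by rw [← map_mul]; exact (hk _).2 (by simp [h.a2])) (by rw [← map_mul]; exact (hk _).2 y2) with
    ⟨g, e⟩ | ⟨v, v1, v2, c1, c2⟩
  · obtain ⟨g, rfl⟩ := hs g
    have h1 : (g * a * g⁻¹)⁻¹ * y ∈ R := (hk ((g * ⟨a, h.QK h.aQ⟩ * g⁻¹)⁻¹ * ⟨y, hy⟩)).1 (by
      rw [map_mul, map_inv, map_mul, map_mul, map_inv, e, inv_mul_cancel])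
    have h2 := Comp.conj_sq h.a2 (g : G)
    have h3 : (g : G) * a * g⁻¹ ∈ K := mul_mem (mul_mem g.2 (h.QK h.aQ)) (inv_mem g.2)
    generalize (g : G) * a * g⁻¹ = s at h1 h2 h3
    refine (y1 ?_).elim
    calc y * y = s * (s⁻¹ * y * s) * (s⁻¹ * y) := by group
      _ = s * s * (s⁻¹ * y * (s⁻¹ * y)) := by rw [mem_Cs.1 (KR h3) _ h1]; group
      _ = 1 := by rw [h2, h.el _ h1, mul_one]
  · obtain ⟨v, rfl⟩ := hs v
    have cm : ∀ x y : K, Commute (π x) (π y) → x.1 ∈ Yx K R y.1 := fun x y c =>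
      ⟨⟨x.2, Cs_le_Ns (KR x.2)⟩, (hk ⁅x, y⁆).1 (by
        rw [map_commutatorElement]; exact commutatorElement_eq_one_iff_commute.2 c)⟩
    have h1 := h.two_mem ⟨v.2, h.Ya (cm _ _ c1)⟩ ((hk (v * v)).1 (by rw [map_mul, v2]))
    exact h.two_mem ⟨hy, h.Yall h1 (fun k => v1 ((hk v).2 k)) (cm _ _ c2)⟩ y2

end KK

theorem FX.cR (h : FX X L U P Q R z a a' w t) : X ⊓ Cs R ≤ Ns Q := by
  obtain ⟨y, hy, y1⟩ : ∃ y ∈ Q, y * y ≠ 1 := by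
    by_contra! k
    refine h.z1 (mem_bot.1 ((commutator_le.2 fun x hx y hy => mem_bot.2 ?_ : ⁅Q, Q⁆ ≤ ⊥)
      (h.cQ.ge h.zR)))
    exact commutatorElement_eq_one_iff_mul_comm.2 (comm_of_sq k x hx y hy)
  have k := h.kk
  have n : X ⊓ Cs R ≤ Ns (ncl (zpowers y) (X ⊓ Cs R) ⊔ R) :=
    le_Ns_sup le_Ns_ncl (inf_le_right.trans Cs_le_Ns)
  have e := (h.irr _ le_sup_right (sup_le (iSup₂_le fun g hg => ?_) h.RQ)
    (h.PC.trans n)).resolve_left fun e =>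
      y1 (h.el y (e.le (mem_sup_left (le_ncl' (mem_zpowers y)))))
  · exact e ▸ n
  · rw [cj_zpowers, zpowers_le]
    refine k.conj_mem (mem_normalizer_conj (k.CK hg) (k.QK hy)) ?_ ?_ <;> rw [conj_mul]
    · exact mem_normalizer_conj (Cs_le_Ns hg.2) (h.sQ y hy)
    · simpa using y1

end Cfsg.Lib.SUE6
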