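import Cfsg.Agent.SUE6.F3
import Cfsg.Agent.SUE6.M7

/-!
# The unitary end game: the final identification
-/

set_option autoImplicit false
set_option linter.unusedSectionVars false

namespace Cfsg.Lib.SUE6

open Subgroup Cfsg.Lib.Trans Cfsg.Lib.Gold
open Cfsg.Lib.SG2
open Cfsg.Lib.AE (Cn)
open scoped commutatorElement

variable {G : Type*} [Group G] [Finite G]

namespace F4

variable {A D D' Q R : Subgroup G} {g k b : G}

theorem sb_mul (h : Sb A D g) (h' : Sb A D k) (n : g ∈ Ns D) : Sb A D (g * k) := fun q hq => by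
  rw [show ⁅g * k, q⁆ = g * ⁅k, q⁆ * g⁻¹ * ⁅g, q⁆ by simp only [commutatorElement_def]; group]
  exact mul_mem (mem_normalizer_conj n (h' q hq)) (h q hq)

theorem sb_Ns (h : Sb D D' g) (e : D' ≤ D) : g ∈ Ns D := Comp.mem_Ns_of fun d hd => by
  simpa [commutatorElement_def] using mul_mem (e (h d hd)) hd

theorem sb_pow (h : Sb A D g) (n : g ∈ Ns D) (m : ℕ) : Sb A D (g ^ m) := by
  induction m with
  | zero => intro q _; simp
  | succ m ih => rw [pow_succ']; exact sb_mul h ih n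

theorem sb_odd (h : Sb A D g) (hD : IsPGroup 2 D) (c : D ≤ C1 g) (ho : Odd (orderOf g)) :
    A ≤ C1 g := fun q hq => by
  have k : ∀ m : ℕ, ⁅g ^ m, q⁆ = ⁅g, q⁆ ^ m := fun m => by
    induction m with
    | zero => simp
    | succ m ih =>
      rw [pow_succ', show ⁅g * g ^ m, q⁆ = g * ⁅g ^ m, q⁆ * g⁻¹ * ⁅g, q⁆ by
        simp only [commutatorElement_def]; group, ih, ← mem_C1.1 (pow_mem (c (h q hq)) m),
        mul_inv_cancel_right, pow_succ]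
  have h1 := k (orderOf g)
  rw [pow_orderOf_eq_one, commutatorElement_one_left] at h1
  obtain ⟨n, hn⟩ := Comp.Tw.of_mem hD (h q hq)
  have h2 : ⁅g, q⁆ = 1 := orderOf_eq_one_iff.1 (Nat.eq_one_of_dvd_coprimes
    ((Nat.coprime_two_right.2 ho).pow_right n) (orderOf_dvd_of_pow_eq_one h1.symm)
    (orderOf_dvd_of_pow_eq_one hn))
  exact mem_C1.2 (commutatorElement_eq_one_iff_mul_comm.1 h2).symm

theorem sb_cj (h : Sb A D g) (k : G) : Sb (cj k A) (cj k D) (k * g * k⁻¹) := fun q hq => by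
  have := conj_mem_cj (g := k).2 (h _ (mem_cj.1 hq))
  rwa [conjugate_commutatorElement, show k * (k⁻¹ * q * k) * k⁻¹ = q by group] at this

theorem ch_cj (h : Ch Q R b g) (h1 : k ∈ Ns Q) (h2 : k ∈ Ns R) :
    Ch Q R (k * b * k⁻¹) (k * g * k⁻¹) := by
  have k1 := sb_cj h.1 k
  have k2 := sb_cj h.2.1 k
  have k3 := sb_cj h.2.2 k
  simp only [cj_inf, cj_Cs, cj_C1, mem_Ns_iff.1 h1, mem_Ns_iff.1 h2] at k1 k2 k3
  exact ⟨k1, k2, k3⟩

/-- An element of odd order in the group generated by two stabilisers of the chain. -/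
theorem ch_odd (hQ : IsPGroup 2 Q) (RQ : R ≤ Q ⊓ Cs Q) (hb : b ∈ Q) (h : Ch Q R b g)
    (h' : Ch Q R b k) (c : g ∈ Cs R) (c' : k ∈ Cs R) {m : ℕ} (ho : Odd (orderOf ((g * k) ^ m))) :
    (g * k) ^ m ∈ Cs Q := by
  have l1 : Q ⊓ Cs (Q ⊓ C1 b) ≤ Q ⊓ C1 b :=
    inf_le_inf_left _ (Cs_le_C1 ⟨hb, mem_C1.2 rfl⟩)
  have l2 : R ≤ Q ⊓ Cs (Q ⊓ C1 b) := RQ.trans (inf_le_inf_left _ (Cs_anti inf_le_left))
  have n1 := sb_Ns h.2.1 l1
  have n2 := sb_Ns h.2.2 l2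
  have k3 := sb_odd (sb_pow (sb_mul h.2.2 h'.2.2 (Cs_le_Ns c)) (Cs_le_Ns (mul_mem c c')) m)
    (hQ.to_le (RQ.trans inf_le_left))
    (fun r hr => mem_C1.2 (mem_Cs.1 (pow_mem (mul_mem c c') m) r hr)) ho
  have k2 := sb_odd (sb_pow (sb_mul h.2.1 h'.2.1 n2) (mul_mem n2 (sb_Ns h'.2.2 l2)) m)
    (hQ.to_le inf_le_left) k3 ho
  have k1 := sb_odd (sb_pow (sb_mul h.1 h'.1 n1) (mul_mem n1 (sb_Ns h'.2.1 l1)) m)
    (hQ.to_le inf_le_left) k2 ho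
  exact mem_Cs.2 fun q hq => mem_C1.1 (k1 hq)

end F4

open F4

variable {X L U P Q R : Subgroup G} {z a a' w t : G}

namespace FX

variable (h : FX X L U P Q R z a a' w t)
include h

theorem ex1 {v : G} (hv : v ∈ P) (c : Cn L z v) (hn : v ∉ R) : ∃ q ∈ Q, ⁅v, q⁆ ∉ R := by
  by_contra! k
  obtain ⟨b, hb, e⟩ := h.fq v (h.cQR v hv k) hn z h.zR
  exact hn (h.k3z v hv c (e ▸ c.conj (h.QL hb)))

theorem two_gen {d T b : G} (hd : d ∈ X ⊓ Cs R) (d2 : d * d = 1) (hT : T ∈ P) (T2 : T * T = 1)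
    (hb : b ∈ Q) (c1 : Ch Q R b d) (c2 : Ch Q R b T) :
    ∃ k ∈ X ⊓ C1 z, k * d * k⁻¹ ∈ U ∧ k * T * k⁻¹ ∈ U := by
  have hY := mul_mem hd (h.PC hT)
  obtain ⟨n, m, hm, e⟩ := Nat.exists_eq_two_pow_mul_odd (orderOf_pos (d * T)).ne'
  have ho : Odd (orderOf ((d * T) ^ 2 ^ n)) := hm.of_dvd_nat
    (orderOf_dvd_of_pow_eq_one (by rw [← pow_mul, ← e, pow_orderOf_eq_one]))
  have h1 := mem_C1.1 (h.cP ⟨pow_mem hY.1 _, ch_odd h.twoQ (le_inf h.RQ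
    (le_Cs_comm.1 (h.QP.trans h.PR))) hb c1 c2 hd.2 (h.PR hT) ho⟩ hT)
  have h2 : T * (d * T) * T⁻¹ = (d * T)⁻¹ := by
    rw [mul_inv_rev, inv_eq_of_mul_eq_one_right d2, ← mul_assoc, mul_inv_cancel_right,
      inv_eq_of_mul_eq_one_right T2]
  have h3 : Comp.Tw (d * T) := ⟨n, eq_one_of_sq_of_odd (by
    refine eq_inv_iff_mul_eq_one.1 ?_
    rw [← inv_pow, ← h2, conj_pow, h1, mul_inv_cancel_right]) ho⟩
  obtain ⟨k, hk, h4⟩ := h.sylY.exists_cj_le (Comp.isPGroup_sup h3.isPGroup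
    (Comp.Tw.of_sq T2).isPGroup (zpowers_le.2 (mem_Ns_iff.2 (by rw [cj_zpowers, h2, zpowers_inv]))))
    (sup_le (zpowers_le.2 (h.CY hY)) (zpowers_le.2 (h.CY (h.PC hT))))
  refine ⟨k, hk, cj_le_iff.1 h4 _ ?_, cj_le_iff.1 h4 _ (mem_sup_right (mem_zpowers _))⟩
  have := mul_mem_sup (mem_zpowers (d * T)) (mem_zpowers T)
  rwa [mul_assoc, T2, mul_one] at this

theorem nbr {d : G} (c : Cn X z d) (hd : d ∈ C1 z) : d ∈ L := by
  have dX : d ∈ X := c.mem (h.le h.zL)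
  obtain ⟨g, hg, h1⟩ := h.sylY.exists_cj_le (Comp.Tw.of_sq (c.sq h.z2)).isPGroup
    (zpowers_le.2 ⟨dX, hd⟩)
  have hv := cj_le_iff.1 h1 d (mem_zpowers d)
  have cv := h.fz (h.UL hv) (c.conj hg.1)
  have g' := inv_mem hg
  obtain ⟨v, rfl⟩ : ∃ v, d = g⁻¹ * v * g⁻¹⁻¹ := ⟨g * d * g⁻¹, by group⟩
  rw [show g * (g⁻¹ * v * g⁻¹⁻¹) * g⁻¹ = v by group] at hv cv
  generalize g⁻¹ = g at *
  by_cases vR : v ∈ R
  · exact h.UL (h.RU (mem_normalizer_conj (h.czR g') vR))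
  obtain ⟨q, hq, h2⟩ := h.ex1 (h.UP hv) cv vR
  have bQ : ⁅v, q⁆ ∈ Q := AE.F2.comm_mem_right (h.PQ (h.UP hv)) hq
  obtain ⟨b2, c1⟩ := h.ch v (h.UP hv) cv q hq _ bQ h2 (by rw [inv_mul_cancel]; exact one_mem _)
  have nR : ∀ {k x : G}, k ∈ X ⊓ C1 z → x ∉ R → k * x * k⁻¹ ∉ R := fun {k x} hk hx e => hx (by
    have := mem_normalizer_conj' (h.czR hk) e
    rwa [show k⁻¹ * (k * x * k⁻¹) * k = x by group] at this)
  have bQ' := mem_normalizer_conj (h.cz g') bQ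
  obtain ⟨T, hT, cT, q', hq', h3⟩ := h.ex2 _ bQ' (nR g' h2) (Comp.conj_sq b2 g)
  obtain ⟨k, hk, u1, u2⟩ := h.two_gen ⟨dX, mem_normalizer_conj (mem_Ns_Cs (h.czR g')) (h.UC hv).2⟩
    (c.sq h.z2) hT (cT.sq h.z2) bQ' (ch_cj c1 (h.cz g') (h.czR g'))
    (h.ch T hT cT q' hq' _ bQ' (nR g' h2) h3).2
  obtain ⟨l, hl, e⟩ := h.fz (h.UL u2) ((cT.mono h.le).conj hk.1)
  obtain ⟨l₀, hl₀, rfl⟩ := cT
  obtain ⟨y, hy, h4⟩ := h.same _ (h.UP u1) (h.fz (h.UL u1) (c.conj hk.1)) l hl (e ▸ h.UP u2)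
    _ (mem_normalizer_conj (h.cz hk) (mem_normalizer_conj (h.cz g') hq))
    _ (mem_normalizer_conj (h.cz hk) hq')
    (by rw [← conjugate_commutatorElement, ← conjugate_commutatorElement]; exact nR hk (nR g' h2))
    (by
      rw [e, ← conjugate_commutatorElement, ← conjugate_commutatorElement,
        ← conjugate_commutatorElement, conj_inv (b := k), conj_mul]
      exact mem_normalizer_conj (h.czR hk) h3)
  have h5 : l⁻¹ * k * l₀ ∈ X ⊓ C1 z := ⟨X.mul_mem (X.mul_mem (X.inv_mem (h.le hl)) hk.1) (h.le hl₀),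
    mem_C1.2 (by
      calc l⁻¹ * k * l₀ * z = l⁻¹ * (k * (l₀ * z * l₀⁻¹) * k⁻¹) * k * l₀ := by group
        _ = _ := by rw [← e]; group)⟩
  have h6 := h.UL (h.RU (mem_normalizer_conj' (h.czR h5) (mem_cj.1 h4)))
  have h7 := h.QL (mem_normalizer_conj' (h.cz hk) hy)
  have h8 := mul_mem (mul_mem (inv_mem h7) (mul_mem (mul_mem hl₀ h6) (inv_mem hl₀))) h7
  convert h8 using 1
  group

theorem cN : X ⊓ C1 z ≤ Ns L := fun y hy => by
  have gz : y * z * y⁻¹ = z := by rw [mem_C1.1 hy.2, mul_inv_cancel_right]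
  refine mem_normalizer_of_cj_le (cj_le_iff_le_cj_inv.2 (h.conn _
    (mem_cj_inv.2 (by rw [gz]; exact h.zL)) fun d d' c c' e hd => ?_))
  rw [mem_cj_inv] at hd ⊢
  obtain ⟨l, hl, e1⟩ := h.fz hd ((c.mono h.le).conj hy.1)
  have h1 := h.nbr (((c'.mono h.le).conj hy.1).conj (inv_mem (h.le hl))) (mem_C1.2 (by
    rw [show z = l⁻¹ * (y * d * y⁻¹) * l⁻¹⁻¹ by rw [← e1]; group, conj_mul, conj_mul, conj_mul,
      conj_mul, e.eq]))
  have h2 := mul_mem (mul_mem hl h1) (inv_mem hl)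
  convert h2 using 1
  group

theorem hT : ∃ v ∈ L, v * v = 1 ∧ v ∉ U := by
  by_contra! k
  have h1 : L ≤ U := h.conn U (h.RU h.zR) fun _ d' _ c _ _ => k d' (c.mem h.zL) (c.sq h.z2)
  have := (h.syl.isPGroup.to_le h1).isNilpotent
  exact h.z1 (mem_bot.1 (eq_bot_of_perf h.perf inferInstance ▸ h.zL))

end FX

theorem FX.eq {X L U P Q R : Subgroup G} {z a a' w t : G} (h : FX X L U P Q R z a a' w t) :
    L = X := by
  by_contra hne
  obtain ⟨m, -, ⟨e⟩⟩ := holt (M := Ns L) h.simple h.perfX h.syl (z := z)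
    ⟨h.RU h.zR, le_Cs_comm.1 (h.UP.trans h.PR) h.zR⟩ h.z2 h.z1 h.UL
    (le_inf h.le le_normalizer) le_rfl h.perf hne h.cN (fun g hg hm => by
      have c : Cn X z (g * z * g⁻¹) := ⟨g, hg, rfl⟩
      obtain ⟨l, hl, e⟩ := h.fz (h.two _ ⟨c.mem (h.le h.zL), hm⟩ (.of_sq (c.sq h.z2))) c
      exact ⟨l, ⟨h.le hl, le_normalizer hl⟩, e⟩) h.hT
  exact (nalt h.sylL h.big h.cube m).false e

end Cfsg.Lib.SUE6
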