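import Cfsg.Agent.SUE6.GR2
import Cfsg.Agent.UM6.KIT
import Cfsg.Agent.UM6.J1
import Cfsg.Agent.UM6.K3

/-!
# The end game for unitary overgroups: fusion of `t`
-/

set_option autoImplicit false
set_option linter.unusedSectionVars false
set_option linter.unusedVariables false

namespace Cfsg.Lib.SUE6

open Subgroup Module Cfsg.Lib.Trans Cfsg.Lib.Gold Cfsg.Lib.Class.Form Cfsg.Lib.Class.FAut
open Cfsg.Lib.UM6 (Mo tT tE I2 I3 Fr3 Mx VW RR QW Fx St Semi Mp sg qn kk fa)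
open Cfsg.Lib.AE (Cn)
open Cfsg.Lib.SG2 (Uq Top)
open Cfsg.Lib.Comp (Tw)
open scoped commutatorElement

section Grp
variable {G E M : Type*} [Group G] [Finite G] [Field E] [Finite E] [AddCommGroup M] [Module E M]
  [FiniteDimensional E M] {σ : E →+* E} {B : M →ₛₗ[σ] M →ₗ[E] E} {ψ : sIsom B →* G} {t : G}
  {α : MulAut (sIsom B)} {Γ : M ≃+ M} {X : Subgroup G} {u x : M}

theorem UE.tM (h : UE ψ t α Γ) : t ∈ Ns ψ.range := h.nL (mem_C1.2 (Commute.refl t))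

theorem UE.sq (h : UE ψ t α Γ) : α * α = 1 := Mp.uniq h.toMod (h.mp.mul h.mp) (h.t2 ▸ Mp.one)

theorem UE.fa_t (h : UE ψ t α Γ) : fa α = sg σ := h.semi.fa_eq h.toMo

theorem UE.lin (h : UE ψ t α Γ) {c : G} {β : MulAut (sIsom B)} (k : Mp ψ ψ c β) (h1 : fa β = 1)
    (h2 : Tw c) : c ∈ ψ.range := by
  obtain ⟨l, hl, k1⟩ := k.lin2 h.toMod h1 (k.tw h.toMod h2)
  have k2 : Commute (ψ l)⁻¹ c := by
    have := mem_Cs.1 k1 _ ⟨l, rfl⟩
    refine Commute.inv_left ?_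
    rw [mul_inv_cancel_left] at this
    rw [Commute, SemiconjBy]
    calc ψ l * c = ψ l * ((ψ l)⁻¹ * c * ψ l) := by rw [← this]
      _ = _ := by group
  exact ⟨l, inv_mul_eq_one.1 (UM6.KIT.tw_odd (UM6.KIT.tw_mul (UM6.KIT.tw_inv (UM6.KIT.tw_map hl ψ)) h2 k2)
    (Odd.of_dvd_nat h.odd (Subgroup.orderOf_dvd_natCard _ k1)))⟩

theorem UE.red (h : UE ψ t α Γ) {c : G} {β : MulAut (sIsom B)} (k : Mp ψ ψ c β) (h1 : fa β = sg σ)
    (c2 : c * c = 1) : ∃ m ∈ Ns ψ.range, ∃ l, α l * l = 1 ∧ m * c * m⁻¹ = t * ψ l := by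
  have t2 := h.t2
  have k1 := h.mp.mul k
  obtain ⟨n, o, ⟨i, rfl⟩, e⟩ := Nat.exists_eq_two_pow_mul_odd (orderOf_pos (t * c)).ne'
  have h2 : Tw ((t * c) ^ (2 * i + 1)) :=
    ⟨n, by rw [← pow_mul, mul_comm, ← e, pow_orderOf_eq_one]⟩
  have ti : t⁻¹ = t := inv_eq_of_mul_eq_one_right t2
  have e1 : (t * c)⁻¹ * t = t * (t * c) := by
    rw [mul_inv_rev, ti, inv_eq_of_mul_eq_one_right c2, mul_assoc, t2, ← mul_assoc, t2, mul_one,
      one_mul]
  have e2 : ((t * c) ^ i)⁻¹ * t = t * (t * c) ^ i := by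
    rw [← inv_pow]; exact (SemiconjBy.pow_right (a := t) e1.symm i).symm
  have e3 : ((t * c) ^ i)⁻¹ * c * (t * c) ^ i = t * (t * c) ^ (2 * i + 1) := by
    calc _ = ((t * c) ^ i)⁻¹ * t * (t * c) * (t * c) ^ i := by
          rw [mul_assoc _ t, ← mul_assoc t, t2, one_mul]
      _ = _ := by
        rw [e2, mul_assoc, mul_assoc, ← pow_succ', ← pow_add, two_mul, add_assoc]
  have h3 := h.lin (k1.pow (2 * i + 1))
    (by rw [h.toMo.fa_pow, h.toMo.fa_mul, h.fa_t, h1, h.toMo.sg_sq, one_pow]) h2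
  obtain ⟨l, hl, e4⟩ := h.toMod.lift2 h3 h2
  rw [← e4] at e3
  refine ⟨((t * c) ^ i)⁻¹, inv_mem (pow_mem (mem_Ns_iff.2 k1.cj_range) i), l, ?_, by rw [inv_inv, e3]⟩
  refine eq_inv_iff_mul_eq_one.1 (h.toMod.eq2 (UM6.KIT.tw_map hl α) (UM6.KIT.tw_inv hl) ?_)
  rw [← h.mp, map_inv, eq_inv_iff_mul_eq_one, ti, mul_assoc, ← e3]
  calc _ = ((t * c) ^ i)⁻¹ * (c * c) * (t * c) ^ i := by group
    _ = 1 := by rw [c2]; group

namespace G1

theorem act (h : UE ψ t α Γ) (p : sIsom B) : t * ψ (α p) = ψ p * t := by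
  rw [← h.mp, ← mul_assoc, ← mul_assoc, h.t2, one_mul, inv_eq_of_mul_eq_one_right h.t2]

theorem not_mem (h : UE ψ t α Γ) (g : G) : g * t * g⁻¹ ∉ ψ.range := fun hs => by
  obtain ⟨v, v2, e⟩ := h.toMod.lift_inv hs
    (by rw [show g * t * g⁻¹ * (g * t * g⁻¹) = g * (t * t) * g⁻¹ by group, h.t2]; group)
  obtain ⟨W, hW, hv⟩ := h.toMo.inv v2
  have key := h.rank (cj g⁻¹ ((VW B W).map ψ)) (by
    rintro _ ⟨_, ⟨w, hw, rfl⟩, rfl⟩
    rw [← map_mul, ← map_mul, h.toMo.sq_VW hW.ti hw, map_one, map_one]) (by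
    rintro _ ⟨_, ⟨w, hw, rfl⟩, rfl⟩
    have := congrArg ψ (h.toMo.VW_comm hW.ti hw hv)
    rw [map_mul, map_mul, e] at this
    refine mem_C1.2 ?_
    change g⁻¹ * ψ w * g⁻¹⁻¹ * t = t * (g⁻¹ * ψ w * g⁻¹⁻¹)
    calc _ = g⁻¹ * (ψ w * (g * t * g⁻¹)) * g := by group
      _ = _ := by rw [this]; group)
  rw [card_cj, h.toMod.card_map (isPGroup_of_sq fun v hv => h.toMo.sq_VW hW.ti hv),
    h.toMo.card_VW hW.ti, hW.dim] at key
  have h2 := h.toMo.two_le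
  have h3 := h.toMo.three_le
  have h4 := (Nat.pow_le_pow_iff_right h2).1
    (key.trans ((Nat.mul_le_mul_right _ h2).trans (pow_succ' _ _).ge))
  have h5 := Nat.mul_div_le (kk E M * (kk E M + 1)) 2
  nlinarith

theorem tw (h : UE ψ t α Γ) {l : sIsom B} (hl : α l * l = 1) :
    (∃ p, ψ p * t * (ψ p)⁻¹ = t * ψ l) ∨ ¬ IsConj t (t * ψ l) := by
  have m := h.toMo
  by_cases ty : Alt B Γ ↔ Alt B ((lin l).toAddEquiv.trans Γ)
  · obtain ⟨p, rfl⟩ := gr m h.semi h.sq hl ty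
    exact .inl ⟨p, by rw [map_mul, ← mul_assoc, act h, map_inv]⟩
  refine .inr fun c => ?_
  have ev : Even (finrank E M) := by
    by_contra o
    rw [Nat.not_even_iff_odd] at o
    exact ty (iff_of_false (gr_odd m h.semi (UM6.OUT.sq m h.semi h.sq) o)
      (gr_odd m (GR2.semi h.semi l) (GR2.sq m h.semi h.sq hl) o))
  obtain ⟨a1, a2⟩ := h.alt ev
  obtain ⟨e, f, k, g⟩ := h.fr
  have e1 : B (e 0) (f 0) = 1 := (k.ef 0 0).trans (if_pos rfl)
  have nT := gr_T m h.semi (k.ee 0 0) (k.ff 0 0) e1 (g 0).1 (g 0).2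
  have nc := a2 (e 0) (g 0).1 fun c => by simp [c] at e1
  have aT : α (tT B (e 0) 1) = tT B (e 0) 1 := by
    rw [h.semi.tT m (k.ee 0 0) (map_one σ), (g 0).1, map_one]
  have T2 := m.tT_sq (k.ee 0 0) (map_one σ)
  generalize tT B (e 0) 1 = T at nT nc aT T2
  have s : ∀ p, α (α p) = p := fun p => MulEquiv.congr_fun h.sq p
  obtain ⟨p, hp⟩ := gr m (GR2.semi h.semi T) (l := T * l) (MulEquiv.ext fun p => by
      simp only [MulAut.mul_apply, MulAut.conj_apply, map_mul, map_inv, aT, s, MulAut.one_apply]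
      calc _ = (T * T) * p * (T * T)⁻¹ := by group
        _ = _ := by rw [T2]; group)
    (by
      simp only [MulAut.mul_apply, MulAut.conj_apply, map_mul, map_inv, aT]
      calc _ = (T * T) * (α l * l) := by group
        _ = _ := by rw [T2, hl, mul_one])
    (iff_of_false nT fun a => ty (iff_of_true a1 fun x hx => a x (by
      change Γ (lin T (lin (T * l) x)) = x
      rw [← lin_mul, ← mul_assoc, T2, one_mul]
      exact hx)))
  simp only [MulAut.mul_apply, MulAut.conj_apply, map_mul, map_inv, aT] at hp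
  have hl' : l = α p * T * p⁻¹ := by
    calc l = T⁻¹ * (T * l) := by group
      _ = _ := by rw [hp, inv_eq_of_mul_eq_one_right T2, ← mul_assoc, ← mul_assoc, ← mul_assoc, T2,
        one_mul]
  refine nc (c.trans (isConj_iff.2 ⟨(ψ p)⁻¹, ?_⟩))
  rw [hl', map_mul, map_mul, map_inv, ← mul_assoc t, ← mul_assoc t, act h]
  group

end G1

theorem UE.uq (h : UE ψ t α Γ) : Uq (Ns ψ.range) t := fun g hs => by
  have s2 : g * t * g⁻¹ * (g * t * g⁻¹) = 1 := by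
    rw [show g * t * g⁻¹ * (g * t * g⁻¹) = g * (t * t) * g⁻¹ by group, h.t2]; group
  obtain ⟨β, k⟩ := h.toMod.ind hs
  have b2 : β * β = 1 := Mp.uniq h.toMod (k.mul k) (s2 ▸ Mp.one)
  rcases h.toMo.aut_inv (τ := fa β) (by rw [← h.toMo.fa_mul, b2, h.toMo.fa_one]) with e | e
  · exact absurd (h.lin k e (.of_sq s2)) (G1.not_mem h g)
  obtain ⟨m, hm, l, hl, e⟩ := h.red k e s2
  rcases G1.tw h hl with ⟨p, hp⟩ | c
  · have : (ψ p)⁻¹ * (m * g) ∈ Ns ψ.range := h.nL (mem_C1.2 (by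
      change (ψ p)⁻¹ * (m * g) * t = t * ((ψ p)⁻¹ * (m * g))
      calc _ = (ψ p)⁻¹ * (m * (g * t * g⁻¹) * m⁻¹) * (m * g) := by group
        _ = _ := by rw [e, ← hp]; group))
    exact (mul_mem_cancel_left hm).1
      ((mul_mem_cancel_left (inv_mem (le_normalizer (show ψ p ∈ ψ.range from ⟨p, rfl⟩)))).1
        this)
  · exact absurd (isConj_iff.2 ⟨m * g, by rw [← e]; group⟩) c

end Grp

end Cfsg.Lib.SUE6
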