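import Cfsg.Agent.SUE6.Defs
import Cfsg.Agent.UM6.SYLA
import Cfsg.Agent.UM6.A2
import Cfsg.Agent.UM6.K4

/-!
# The unitary model: generation of `Q` from two stabilisers
-/

set_option autoImplicit false
set_option linter.unusedSectionVars false
set_option linter.unusedVariables false

namespace Cfsg.Lib.SUE6

open Subgroup Module Cfsg.Lib.Trans Cfsg.Lib.Gold Cfsg.Lib.Class.Form Cfsg.Lib.Class.FAut
open Cfsg.Lib.UM6 (Mo tT tE I2 I3 Fr3 Mx VW RR QW Fx St Semi Mp sg qn kk fa)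
open Cfsg.Lib.AE (Cn)
open scoped commutatorElement

variable {E M : Type*} [Field E] [Finite E] [AddCommGroup M] [Module E M] [FiniteDimensional E M]
  {σ : E →+* E} {B : M →ₛₗ[σ] M →ₗ[E] E} {u x y : M} {e f : Fin 3 → M}

namespace M3b

theorem step (h : Mo B) {A : AddSubgroup M} {p q : M} (k : I2 B u x) (xy : B x y = 1) (hy : y ∈ A)
    (inv : ∀ s : sIsom B, lin s u = u → lin s x = x → lin s y ∈ A)
    (kp : I3 B u x p) (kq : I3 B u x q) (py : B p y = 0) (qy : B q y = 0) (pq : B p q = 1) :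
    (∀ c : E, c • x ∈ A) ∧ ∀ w, B u w = 0 → B x w = 0 → B y w = 0 → w ∈ A := by
  have K : ∀ w (b : E), B u w = 0 → B x w = 0 → B w y = 0 → b + σ b = B w w → w - b • x ∈ A :=
    fun w b h1 h2 h3 hb => by
      obtain ⟨s, hs⟩ := h.cls.exists_isE k.ww h2 (b := b) (by simpa using hb)
      have := inv s (by rw [hs, h.swap k.uw, h.swap h1]; simp) (hs.apply_self k.ww (h.swap h2))
      rw [hs, xy, h3, add_sub_assoc, A.add_mem_cancel_left hy] at this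
      simpa using this
  have qp : B q p = 1 := by rw [← h.toHerm.conj, pq, map_one]
  have a : ∀ c : E, c • x ∈ A := fun c => by
    have k1 := K p 0 kp.ux kp.wx py (by simp [kp.xx])
    have k2 := K (c • q) 0 (by simp [kq.ux]) (by simp [kq.wx]) (by simp [qy]) (by simp [kq.xx])
    have k3 := K (p + c • q) c (by simp [kp.ux, kq.ux]) (by simp [kp.wx, kq.wx]) (by simp [py, qy])
      (by simp [kp.xx, kq.xx, pq, qp])
    rw [zero_smul, sub_zero] at k1 k2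
    rwa [sub_eq_add_neg, A.add_mem_cancel_left (A.add_mem k1 k2), neg_mem_iff] at k3
  refine ⟨a, fun w h1 h2 h3 => ?_⟩
  obtain ⟨b, hb⟩ := h.cls.exists_trace w
  simpa using A.add_mem (K w b h1 h2 (h.swap h3) (by simpa using hb)) (a b)

end M3b

theorem m_sp2 (h : Mo B) (k : Fr3 B e f) : ∀ T : Subgroup (sIsom B), RR B (e 0) ≤ T →
    T ≤ QW B (E ∙ e 0) → tE B (e 0) (e 1) ∈ T → tE B (e 0) (f 1) ∈ T →
    Fx B (E ∙ e 0) ⊓ C1 (tE B (e 0) (e 1)) ≤ Ns T → Fx B (E ∙ e 0) ⊓ C1 (tE B (e 0) (f 1)) ≤ Ns T →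
    T = QW B (E ∙ e 0) := fun T h1 h2 ha hb na nb => by
  have fe := UM6.Fr3.fe h k
  have ef := k.ef
  have hu := k.ee 0 0
  let A : AddSubgroup M :=
    { carrier := {w | B (e 0) w = 0 ∧ ∃ b g, IsE B 1 (e 0) w b g ∧ g ∈ T}
      zero_mem' := ⟨map_zero _, 0, 1, fun x => by simp, one_mem _⟩
      add_mem' := fun {w w'} ⟨hw, _, _, e, hg⟩ ⟨hw', _, _, e', hg'⟩ =>
        ⟨by rw [map_add, hw, hw', add_zero], _, _, e.mul hu (h.swap hw) hw' e', mul_mem hg hg'⟩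
      neg_mem' := fun {w} hw => by rwa [neg_eq_of_add_eq_zero_left (h.vadd_self w)] }
  have inv : ∀ {x y}, I2 B (e 0) x → Fx B (E ∙ e 0) ⊓ C1 (tE B (e 0) x) ≤ Ns T → y ∈ A →
      ∀ s : sIsom B, lin s (e 0) = e 0 → lin s x = x → lin s y ∈ A :=
    fun {x y} kx n ⟨hy, b, g, eg, hg⟩ s s1 s2 => by
      have e := eg.conj s
      rw [s1] at e
      refine ⟨by rw [← s1, lin_isom, hy], _, _, e, (mem_normalizer_iff.1 (n ⟨UM6.mem_Fx1.2 s1,
        mem_C1.2 (mul_inv_eq_iff_eq_mul.1 ?_)⟩) g).1 hg⟩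
      rw [h.tE_conj s kx, s1, s2]
  have k1 : I2 B (e 0) (e 1) := ⟨hu, k.ee _ _, k.ee _ _⟩
  have k2 : I2 B (e 0) (f 1) := ⟨hu, k.ff _ _, by simp [ef]⟩
  have m1 : e 1 ∈ A := ⟨k1.uw, _, _, h.isE k1, ha⟩
  have m2 : f 1 ∈ A := ⟨k2.uw, _, _, h.isE k2, hb⟩
  obtain ⟨a1, a2⟩ := M3b.step h (p := e 2) (q := f 2) k1 (by simp [ef]) m2 (inv k1 na m2)
    ⟨k1, k.ee _ _, k.ee _ _, k.ee _ _⟩ ⟨k1, k.ff _ _, by simp [ef], by simp [ef]⟩ (by simp [ef])
    (k.ff _ _) (by simp [ef])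
  obtain ⟨a3, -⟩ := M3b.step h (p := e 2) (q := f 2) k2 (by simp [fe]) m1 (inv k2 nb m1)
    ⟨k2, k.ee _ _, k.ee _ _, by simp [fe]⟩ ⟨k2, k.ff _ _, by simp [ef], k.ff _ _⟩ (k.ee _ _)
    (by simp [fe]) (by simp [ef])
  refine le_antisymm h2 fun q hq => ?_
  obtain ⟨w, b, hw, -, eq⟩ := UM6.SYL.Q_isE h hu (fun e0 => by simpa [e0] using ef 0 0) hq
  have : w ∈ A := by
    have := a2 (w - B (f 1) w • e 1 - B (e 1) w • f 1) (by simp [hw, k.ee, ef])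
      (by simp [k.ee, ef]) (by simp [k.ff, fe])
    simpa using A.add_mem (A.add_mem this (a3 (B (e 1) w))) (a1 (B (f 1) w))
  obtain ⟨-, b', g, eg, hg⟩ := this
  exact (mul_mem_cancel_right hg).1 (h1 (UM6.A2.mul_mem_RR h hu hw eq eg))

end Cfsg.Lib.SUE6
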