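import Cfsg.Agent.SUE6.M1
import Cfsg.Agent.UM6.AP2A

/-!
# The unitary end game: the quotient `P / Q` and connectedness
-/

set_option autoImplicit false
set_option linter.unusedSectionVars false
set_option linter.unusedVariables false

namespace Cfsg.Lib.SUE6

open Subgroup Module Cfsg.Lib.Trans Cfsg.Lib.Gold Cfsg.Lib.Class.Form Cfsg.Lib.Class.FAut
open Cfsg.Lib.UM6 (Mo tT tE I2 I3 Fr3 Mx VW RR QW Fx St Semi Mp sg qn kk fa)
open Cfsg.Lib.AE (Cn)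
open Cfsg.Lib.SG2 (Uq Top)
open Cfsg.Lib.Comp (Tw)
open scoped commutatorElement

variable {E M : Type*} [Field E] [Finite E] [AddCommGroup M] [Module E M] [FiniteDimensional E M]
  {σ : E →+* E} {B : M →ₛₗ[σ] M →ₗ[E] E} {u x y : M} {U : Subgroup (sIsom B)} {W : Submodule E M}
  {e f : Fin 3 → M} {α : MulAut (sIsom B)} {Γ : M ≃+ M}

theorem m_qs (h : Mo B) (hu : B u u = 0) (u0 : u ≠ 0) : ∀ N : Subgroup (sIsom B),
    QW B (E ∙ u) ≤ N → N ≤ Fx B (E ∙ u) → Fx B (E ∙ u) ≤ Ns N →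
      ⁅N, Fx B (E ∙ u)⁆ ≤ QW B (E ∙ u) ∨ N = Fx B (E ∙ u) := fun N h1 h2 h3 => by
  obtain ⟨f, hf, hef⟩ := h.toHerm.exists_hyperbolic u0 hu
  obtain ⟨π, ι, k1, k2, -⟩ := UM6.levi h.toHerm hu hf hef
  have hp : UM6.AP2.HP B u f := ⟨h, hu, hf, hef⟩
  have h4 := hp.four
  have hn : (N.subgroupOf (Fx B (E ∙ u))).Normal := ⟨fun a ha p =>
    mem_subgroupOf.2 (mem_Ns_iff.1 (h3 p.2) ▸ conj_mem_cj.2 ha)⟩
  refine (hp.hU.normal_le_center_or_eq_top (by omega) (fun e => by omega) _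
    (hn.map π fun g => ⟨_, k1 g⟩)).imp (fun hc => commutator_le.2 fun a ha p hp => ?_)
    fun ht => le_antisymm h2 fun p hp => ?_
  · refine (k2 ⁅(⟨a, h2 ha⟩ : Fx B (E ∙ u)), (⟨p, hp⟩ : Fx B (E ∙ u))⁆).1 ?_
    rw [map_commutatorElement, commutatorElement_eq_one_iff_mul_comm]
    exact (mem_center_iff.1 (hc ⟨⟨a, h2 ha⟩, ha, rfl⟩) _).symm
  · obtain ⟨a, ha, e⟩ := ht.ge (mem_top (π ⟨p, hp⟩))
    exact (mul_mem_cancel_left (inv_mem (mem_subgroupOf.1 ha))).1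
      (h1 ((k2 (a⁻¹ * ⟨p, hp⟩)).1 (by rw [map_mul, map_inv, e, inv_mul_cancel])))

theorem m_wn (h : Mo B) (k : Fr3 B e f) :
    ∃ p ∈ Fx B (E ∙ e 0), ⁅tE B (e 1) (e 2), p⁆ ∉ QW B (E ∙ e 0) := by
  have i : I2 B (e 1) (e 2) := ⟨k.ee _ _, k.ee _ _, k.ee _ _⟩
  refine ⟨tT B (f 1) 1, UM6.mem_Fx1.2 (by rw [h.lin_tT (k.ff _ _) (map_one σ)]; simp [k.fe h]),
    fun hq => ?_⟩
  have e1 : lin (tE B (e 1) (e 2)) (f 1) = f 1 + e 2 := by rw [h.lin_tE i]; simp [k.ef]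
  have e2 : B (f 1 + e 2) (f 1 + e 2) = 0 := by simp [k.ee, k.ef, k.ff, k.fe h]
  obtain ⟨a, ha⟩ := Submodule.mem_span_singleton.1
    (hq.2 (f 2) (mem_orth_span_singleton.2 (by simp [k.ef])))
  rw [commutatorElement_def, h.tT_conj _ (k.ff _ _) (map_one σ), e1,
    ← eq_inv_of_mul_eq_one_left (h.tT_sq (k.ff 1 1) (map_one σ)), lin_mul,
    h.lin_tT (k.ff _ _) (map_one σ), h.lin_tT e2 (map_one σ)] at ha
  simpa [k.ee, k.ef, k.ff, k.fe h] using congrArg (B (e 1)) ha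

theorem m_conn (h : Mo B) (hu : B u u = 0) (u0 : u ≠ 0) : ∀ H : Subgroup (sIsom B), tT B u 1 ∈ H →
    (∀ d d', Cn ⊤ (tT B u 1) d → Cn ⊤ (tT B u 1) d' → Commute d d' → d ∈ H → d' ∈ H) →
      ⊤ ≤ H := fun H h1 h2 => by
  have cn : ∀ {y}, y ≠ 0 → B y y = 0 → Cn ⊤ (tT B u 1) (tT B y 1) := fun y0 hy =>
    (cn_T h hu u0).2 ⟨_, 1, y0, hy, map_one σ, one_ne_zero, rfl⟩
  have cm : ∀ {x y}, B x x = 0 → B y y = 0 → B y x = 0 → Commute (tT B y 1) (tT B x 1) :=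
    fun {x y} hx hy e => by
      have := h.tT_conj (tT B y 1) hx (map_one σ)
      rwa [h.lin_tT hy (map_one σ), e, mul_zero, zero_smul, add_zero, mul_inv_eq_iff_eq_mul] at this
  refine (h.gen_T fun y hy => ?_).ge
  by_cases y0 : y = 0
  · rw [y0, h.tT_zero']
    exact one_mem _
  have h6 := h.six
  have h3 := h.toHerm.toGood.finrank_orth (Submodule.span E (Set.range ![u, y]))
  have h4 := finrank_range_le_card (R := E) ![u, y]
  obtain ⟨x, hx, x0, xx⟩ := h.toHerm.exists_isotropic_of_two_le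
    (T := orth B (Submodule.span E (Set.range ![u, y])))
    (by rw [Set.finrank, Fintype.card_fin] at h4; omega)
  exact h2 _ _ (cn x0 xx) (cn y0 hy) (cm xx hy (mem_orth_span.1 hx _ ⟨1, rfl⟩)).symm
    (h2 _ _ (cn u0 hu) (cn x0 xx) (cm xx hu (mem_orth_span.1 hx _ ⟨0, rfl⟩)) h1)

end Cfsg.Lib.SUE6
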