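import Cfsg.Agent.SUE6.G2
import Cfsg.Agent.SUE6.M1
import Cfsg.Agent.SUE6.M4b
import Cfsg.Agent.SUE6.M8
import Cfsg.Agent.SUE6.T2
import Cfsg.Agent.SUE6.CL2
import Cfsg.Agent.SUE6.F4
import Cfsg.Agent.UM6.A2A

set_option autoImplicit false
set_option linter.unusedSectionVars false
set_option linter.unusedVariables false

namespace Cfsg.Lib.SUE6

open Subgroup Module Cfsg.Lib.Trans Cfsg.Lib.Gold Cfsg.Lib.Class.Form Cfsg.Lib.Class.FAut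
open Cfsg.Lib.UM6 (Mo tT tE I2 I3 Fr3 Mx VW RR QW Fx St Semi Mp sg qn kk fa)
open Cfsg.Lib.AE (Cn)
open Cfsg.Lib.SG2 (Uq Top)
open Cfsg.Lib.Comp (Tw)
open scoped commutatorElement

variable {G E M : Type*} [Group G] [Finite G] [Field E] [Finite E] [AddCommGroup M] [Module E M]
  [FiniteDimensional E M] {σ : E →+* E} {B : M →ₛₗ[σ] M →ₗ[E] E} {ψ : sIsom B →* G} {t : G}
  {α : MulAut (sIsom B)} {Γ : M ≃+ M} {X : Subgroup G} {u x : M}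

namespace G3

theorem cn_map {z v : sIsom B} (k : Cn ⊤ z v) : Cn ψ.range (ψ z) (ψ v) := by
  obtain ⟨l, -, rfl⟩ := k
  exact ⟨ψ l, ⟨l, rfl⟩, by simp⟩

theorem ne {β : MulAut (sIsom B)} {Δ : M ≃+ M} (u0 : u ≠ 0) : Δ u ≠ 0 :=
  fun e => u0 (Δ.map_eq_zero_iff.1 e)

theorem Ns_of {m : G} {β : MulAut (sIsom B)} (k : Mp ψ ψ m β) {A : Subgroup (sIsom B)}
    (e : UM6.mp β A = A) : m ∈ Ns (A.map ψ) := by
  have := k.cj_map A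
  rw [e] at this
  exact Gold.mem_Ns_iff.2 this

end G3

theorem UE.nsA (h : UE ψ t α Γ) (hu : B u u = 0) (u0 : u ≠ 0) :
    ∀ m ∈ Ns ψ.range, Cn ψ.range (ψ (tT B u 1)) (m * ψ (tT B u 1) * m⁻¹) := fun m hm => by
  have mo := h.toMod.toMo
  obtain ⟨β, k⟩ := h.toMod.ind hm
  obtain ⟨Δ, s⟩ := mo.semi β
  rw [k, s.tT mo hu (map_one σ), map_one]
  exact G3.cn_map ((cn_T mo hu u0).2 ⟨_, 1, G3.ne (β := β) u0, by rw [s.form, hu, map_zero],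
    map_one σ, one_ne_zero, rfl⟩)

theorem UE.nsa (h : UE ψ t α Γ) (k : I2 B u x) (u0 : u ≠ 0) (hx : x ∉ E ∙ u) :
    ∀ m ∈ Ns ψ.range, Cn ψ.range (ψ (tE B u x)) (m * ψ (tE B u x) * m⁻¹) := fun m hm => by
  have mo := h.toMod.toMo
  obtain ⟨β, k'⟩ := h.toMod.ind hm
  obtain ⟨Δ, s⟩ := mo.semi β
  rw [k', s.tE mo k]
  refine G3.cn_map (cn_E mo k hx u0 ⟨by rw [s.form, k.uu, map_zero], by rw [s.form, k.ww, map_zero],
    by rw [s.form, k.uw, map_zero]⟩ (fun e => hx ?_) (G3.ne (β := β) u0))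
  rw [s.span, Set.image_singleton]
  exact e

theorem UE.f8 (h : UE ψ t α Γ) (hu : B u u = 0) (u0 : u ≠ 0) : Ns ψ.range ⊓ C1 (ψ (tT B u 1)) ≤
    Ns ((Fx B (E ∙ u)).map ψ) ⊓ Ns ((QW B (E ∙ u)).map ψ) := fun m hm => by
  have mo := h.toMod.toMo
  have o := map_one σ
  obtain ⟨β, k⟩ := h.toMod.ind hm.1
  have e : β (tT B u 1) = tT B u 1 := (k.fix2 h.toMod (Comp.Tw.of_sq (mo.tT_sq hu o))).1
    (mem_centralizer_singleton_iff.1 hm.2)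
  obtain ⟨e1, e2, -⟩ := mo.fix_T hu u0 o one_ne_zero
    (by rw [e]; exact mo.tT_mem hu (Submodule.mem_span_singleton_self u) o)
  exact ⟨G3.Ns_of k e2, G3.Ns_of k e1⟩

theorem UE.good (h : UE ψ t α Γ) (k : I2 B u x) (g1 : Γ u = u) (g2 : Γ x = x) :
    Commute t (ψ (tE B u x)) ∧ ∃ c : E,
      ψ (tE B (c • u) x) * t * (ψ (tE B (c • u) x))⁻¹ = t * ψ (tE B u x) := by
  have mo := h.toMod.toMo
  refine ⟨(h.mp.fix2 h.toMod (Comp.Tw.of_sq (mo.tE_sq k))).2 (UM6.mem_Cf.2 ?_), ?_⟩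
  · rw [h.semi.tE mo k, g1, g2]
  obtain ⟨c, hc⟩ := mo.exists_tr (map_one σ)
  have k1 : ∀ a : E, I2 B (a • u) x := fun a => by simpa using k.smul a 1
  have e1 : α (tE B (c • u) x) = tE B (σ c • u) x := by
    rw [h.semi.tE mo (k1 c), h.semi.smul, g1, g2, mo.sg_apply]
  have e2 : tE B u x = tE B (σ c • u) x * tE B (c • u) x := by
    rw [← mo.tE_add' ⟨((k1 _).symm mo), (k1 c).uu, ((k1 c).symm mo).uw, by simp [k.uu]⟩,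
      ← add_smul, add_comm, hc, one_smul]
  have e3 := h.mp (tE B (c • u) x)
  have t2 : t⁻¹ = t := inv_eq_of_mul_eq_one_right h.t2
  refine ⟨c, ?_⟩
  rw [e2, map_mul, ← e1, ← e3, t2, ← map_inv, inv_eq_of_mul_eq_one_right (mo.tE_sq (k1 c))]
  calc _ = t * t * (ψ (tE B (c • u) x) * t * ψ (tE B (c • u) x)) := by rw [h.t2, one_mul]
    _ = _ := by group

theorem UE.cls (h : UE ψ t α Γ) : ∀ v ∈ ψ.range, v * v = 1 →
    ∃ l ∈ ψ.range, Commute t (l * v * l⁻¹) := fun v hv v2 => by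
  obtain ⟨a, a2, rfl⟩ := h.toMod.lift_inv hv v2
  obtain ⟨l, hl⟩ := conj_fix h.toMod.toMo h.semi h.sq a2
  refine ⟨ψ l, ⟨l, rfl⟩, ?_⟩
  rw [← map_inv, ← map_mul, ← map_mul]
  exact (h.mp.fix2 h.toMod ((Comp.Tw.of_sq a2).conj l)).2 hl

theorem UE.eq (h : UE ψ t α Γ) (hX : Top X t) : ψ.range = X := by
  have mo := h.toMod.toMo
  have o := map_one σ
  obtain ⟨e, f, k, g⟩ := h.fr
  have u0 : e 0 ≠ 0 := (k.li1 mo).ne_zero 0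
  have hu := k.ee 0 0
  obtain ⟨U, W, hU⟩ := exists_MF mo hu u0
  have k1 : I2 B (e 0) (e 1) := ⟨hu, k.ee 1 1, k.ee 0 1⟩
  have k2 : I2 B (e 0) (f 1) := ⟨hu, k.ff 1 1, by simpa using k.ef 0 1⟩
  have k3 : I2 B (e 1) (e 2) := ⟨k.ee 1 1, k.ee 2 2, k.ee 1 2⟩
  have n1 : e 1 ∉ E ∙ e 0 := fun c => by
    obtain ⟨a, ha⟩ := Submodule.mem_span_singleton.1 c
    have := k.ef 1 1
    rw [← ha] at this
    simp [k.ef] at this
  obtain ⟨a1, c1, b1⟩ := h.good k1 (g 0).1 (g 1).1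
  obtain ⟨a2, c2, b2⟩ := h.good k2 (g 0).1 (g 1).2
  obtain ⟨a3, c3, b3⟩ := h.good k3 (g 1).1 (g 2).1
  refine FX.eq ⟨(hU.fi k).map ⟨h.ker, fun _ hg => mo.odd_center hg, mo.Fx_center u0⟩, hX.normal,
    hX.simple, hX.perf, h.le hX, h.sylX hX hU.syl, h.twoX hX, h.t2, h.tM, h.uq, h.cls,
    h.nsA hu u0, h.nsa k1 u0 n1, h.f8 hu u0, ?_, a1, a2, ⟨_, ⟨_, rfl⟩, b1⟩, ⟨_, ⟨_, rfl⟩, b2⟩,
    ⟨_, ⟨_, UM6.mem_Fx1.2 ?_, rfl⟩, b3⟩⟩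
  · refine (h.mp.fix2 h.toMod (Comp.Tw.of_sq (mo.tT_sq hu o))).2 (UM6.mem_Cf.2 ?_)
    rw [h.semi.tT mo hu o, (g 0).1, map_one]
  · rw [mo.lin_tE (by simpa using k3.smul c3 1)]
    simp [k.ee]

end Cfsg.Lib.SUE6
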