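import Cfsg.Agent.SUE6.GR1
import Cfsg.Agent.UM6.OUT
import Cfsg.Agent.Class.HermCount

/-!
# The end game for unitary overgroups: graph involutions up to `SU`-conjugacy
-/

set_option autoImplicit false
set_option linter.unusedSectionVars false
set_option linter.unusedVariables false

namespace Cfsg.Lib.SUE6

open Subgroup Module Cfsg.Lib.Trans Cfsg.Lib.Gold Cfsg.Lib.Class.Form Cfsg.Lib.Class.FAut
open Cfsg.Lib.UM6 (Mo tT tE I2 I3 Fr3 Mx VW RR QW Fx St Semi Mp sg qn kk fa)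
open Cfsg.Lib.AE (Cn)
open Cfsg.Lib.SG2 (Uq Top)
open Cfsg.Lib.Comp (Tw)
open scoped commutatorElement

section Model
variable {E M : Type*} [Field E] [Finite E] [AddCommGroup M] [Module E M] [FiniteDimensional E M]
  {σ : E →+* E} {B : M →ₛₗ[σ] M →ₗ[E] E} {u x y : M} {U : Subgroup (sIsom B)} {W : Submodule E M}
  {e f : Fin 3 → M} {α : MulAut (sIsom B)} {Γ : M ≃+ M}

namespace GR2

theorem semi (k : Semi α Γ (sg σ)) (l : sIsom B) :
    Semi (α * MulAut.conj l) ((lin l).toAddEquiv.trans Γ) (sg σ) := by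
  have := k.mul (UM6.semi_conj l)
  rwa [mul_one] at this

theorem sq (h : Mo B) (k : Semi α Γ (sg σ)) (h2 : α * α = 1) {l : sIsom B} (hl : α l * l = 1)
    (x : M) : ((lin l).toAddEquiv.trans Γ) (((lin l).toAddEquiv.trans Γ) x) = x := by
  change Γ (lin l (Γ (lin l x))) = x
  rw [← k.conj, UM6.OUT.sq h k h2, ← lin_mul, hl, lin_one]

theorem det (h : Mo B) (k : Semi α Γ (sg σ)) (h2 : ∀ x, Γ (Γ x) = x) {g g' : M →ₗ[E] M}
    (e : ∀ x, Γ (g' x) = g (Γ x)) : LinearMap.det g = σ (LinearMap.det g') := by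
  classical
  obtain ⟨b, hb⟩ := GR1.basis h k h2
  rw [← LinearMap.det_toMatrix b, ← LinearMap.det_toMatrix b, RingHom.map_det]
  congr 1
  ext i j
  have := GR1.sum h k hb (b.repr (g' (b j)))
  rw [b.sum_repr, e, hb] at this
  rw [RingHom.mapMatrix_apply, Matrix.map_apply, LinearMap.toMatrix_apply, LinearMap.toMatrix_apply,
    this]
  simp [Finsupp.single_apply]

end GR2

theorem gr (h : Mo B) (k : Semi α Γ (sg σ)) (h2 : α * α = 1) {l : sIsom B} (hl : α l * l = 1)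
    (ty : Alt B Γ ↔ Alt B ((lin l).toAddEquiv.trans Γ)) : ∃ g, l = α g * g⁻¹ := by
  have s := UM6.OUT.sq h k h2
  obtain ⟨g, hg⟩ := gr_isom h k (GR2.semi k l) s (GR2.sq h k h2 hl) ty
  replace hg : ∀ x, Γ (lin l ((g : M ≃ₗ[E] M) x)) = (g : M ≃ₗ[E] M) (Γ x) := hg
  have d := GR2.det h k s (g := ((g : M ≃ₗ[E] M) : M →ₗ[E] M))
    (g' := (lin l : M →ₗ[E] M) ∘ₗ ((g : M ≃ₗ[E] M) : M →ₗ[E] M)) hg
  rw [LinearMap.det_comp, ← LinearEquiv.coe_det, ← LinearEquiv.coe_det, lin_det, one_mul] at d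
  have n := h.toHerm.norm_det g
  rw [← d] at n
  have m : g ∈ sIsom B := mem_sIsom'.2 (h.sq_inj (n.trans (mul_one 1).symm))
  refine ⟨⟨g, m⟩, eq_mul_inv_iff_mul_eq.2 (lin_ext (Γ.surjective.forall.2 fun x => ?_))⟩
  rw [k.conj]
  change lin l ((g : M ≃ₗ[E] M) (Γ x)) = Γ ((g : M ≃ₗ[E] M) x)
  rw [← s (lin l _), hg, s]

theorem gr_T (h : Mo B) (k : Semi α Γ (sg σ)) (hu : B u u = 0) (hx : B x x = 0) (e1 : B u x = 1)
    (g1 : Γ u = u) (g2 : Γ x = x) : ¬ Alt B ((lin (tT B u 1)).toAddEquiv.trans Γ) := fun a => by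
  obtain ⟨c, hc⟩ := h.exists_tr (map_one σ)
  have e2 : B x u = 1 := by rw [h.sym, e1, map_one, one_mul]
  have := a (c • u + x) (by
    change Γ (lin (tT B u 1) (c • u + x)) = c • u + x
    rw [h.lin_tT hu (map_one σ)]
    simp only [map_add, map_smul, hu, e1, k.smul, g1, g2, h.sg_apply, smul_zero, zero_add, mul_one,
      one_smul]
    linear_combination (norm := module) (hc - h.add_self c + h.add_self 1) • u)
  simp only [map_add, LinearMap.map_smulₛₗ, LinearMap.add_apply, LinearMap.smul_apply, hu, hx, e1,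
    e2, smul_eq_mul, RingHom.id_apply] at this
  exact one_ne_zero (by linear_combination this - hc : (1 : E) = 0)

end Model

end Cfsg.Lib.SUE6
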