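import Cfsg.Agent.SUE6.Defs
import Cfsg.Agent.UM6.KIT

/-!
# The end game for unitary overgroups in characteristic two: transfer along a central odd cover
-/

set_option autoImplicit false
set_option linter.unusedSectionVars false
set_option linter.unusedVariables false

namespace Cfsg.Lib.SUE6

open Subgroup Module Cfsg.Lib.Trans Cfsg.Lib.Gold Cfsg.Lib.Class.Form Cfsg.Lib.Class.FAut
open Cfsg.Lib.UM6 (Mo tT tE I2 I3 Fr3 Mx VW RR QW Fx St Semi Mp sg qn kk fa)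
open Cfsg.Lib.AE (Cn)
open Cfsg.Lib.SG2 (Uq Top)
open Cfsg.Lib.Comp (Tw)
open scoped commutatorElement

section Abstract
variable {G H : Type*} [Group G] [Finite G] [Group H] [Finite H]

/-- A homomorphism with central kernel of odd order which is injective on `P`. -/
structure TK (ψ : H →* G) (P : Subgroup H) : Prop where
  ker : ψ.ker ≤ center H
  odd : ∀ g ∈ center H, Odd (orderOf g)
  bot : P ⊓ center H = ⊥

section TK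
variable {ψ : H →* G} {U P Q R N : Subgroup H} {z a a' w v : H}

theorem T0.cen (k : TK ψ P) (e : ψ v = ψ w) : v⁻¹ * w ∈ center H :=
  k.ker (by rw [MonoidHom.mem_ker, map_mul, map_inv, e, inv_mul_cancel])

theorem TK.inj (k : TK ψ P) (hv : v ∈ P) (hw : w ∈ P) (e : ψ v = ψ w) : v = w :=
  inv_mul_eq_one.1 (mem_bot.1 (k.bot ▸ mem_inf.2 ⟨mul_mem (inv_mem hv) hw, T0.cen k e⟩))

theorem TK.mem (k : TK ψ P) (hN : N ≤ P) (hv : v ∈ P) : ψ v ∈ N.map ψ ↔ v ∈ N :=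
  ⟨fun ⟨_, hn, e⟩ => k.inj (hN hn) hv e ▸ hn, mem_map_of_mem ψ⟩

theorem TK.eq2 (k : TK ψ P) (hv : Tw v) (hw : Tw w) (e : ψ v = ψ w) : v = w := by
  have h := T0.cen k e
  have c : Commute v (v⁻¹ * w) := mem_center_iff.1 h v
  have c' : Commute v⁻¹ w := by simpa using ((Commute.refl v).mul_right c).inv_left
  exact inv_mul_eq_one.1 (UM6.KIT.tw_odd (UM6.KIT.tw_mul (UM6.KIT.tw_inv hv) hw c') (k.odd _ h))

theorem TK.mem2 (k : TK ψ P) (v2 : v * v = 1) : ψ v ∈ N.map ψ ↔ v ∈ N := by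
  refine ⟨fun ⟨n, hn, e⟩ => ?_, mem_map_of_mem ψ⟩
  have h := T0.cen k e.symm
  obtain ⟨m, hm⟩ := k.odd _ h
  have c : Commute v (v⁻¹ * n) := mem_center_iff.1 h v
  have e1 : (v * (v⁻¹ * n)) ^ (2 * m + 1) = v := by
    rw [c.mul_pow, ← hm, pow_orderOf_eq_one, hm, mul_one, pow_succ, pow_mul, pow_two, v2, one_pow,
      one_mul]
  rw [mul_inv_cancel_left] at e1
  exact e1 ▸ pow_mem hn _

theorem TK.cn (k : TK ψ P) (z2 : z * z = 1) (hv : v ∈ P) :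
    Cn ψ.range (ψ z) (ψ v) ↔ Cn ⊤ z v := by
  constructor
  · rintro ⟨_, ⟨l, rfl⟩, e⟩
    rw [← map_inv, ← map_mul, ← map_mul] at e
    exact ⟨l, trivial, k.inj ((k.mem2 (Comp.conj_sq z2 l)).1 (e ▸ mem_map_of_mem ψ hv)) hv e⟩
  · rintro ⟨l, -, rfl⟩
    exact ⟨ψ l, ⟨l, rfl⟩, by simp⟩

theorem TK.sub (k : TK ψ P) {A : Subgroup G} (hA : A ≤ P.map ψ) : ∃ N ≤ P, N.map ψ = A := by
  refine ⟨A.comap ψ ⊓ P, inf_le_right, le_antisymm ?_ fun g hg => ?_⟩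
  · rintro _ ⟨n, hn, rfl⟩
    exact hn.1
  · obtain ⟨n, hn, rfl⟩ := hA hg
    exact ⟨n, ⟨hg, hn⟩, rfl⟩

theorem TK.le (k : TK ψ P) (hN : N ≤ P) (hQ : Q ≤ P) : N.map ψ ≤ Q.map ψ ↔ N ≤ Q :=
  ⟨fun h _ hn => (k.mem hQ (hN hn)).1 (h (mem_map_of_mem ψ hn)), map_mono⟩

theorem TK.Ns (k : TK ψ P) (hN : N ≤ P) (hv : v ∈ P) : ψ v ∈ Ns (N.map ψ) ↔ v ∈ Ns N := by
  refine ⟨fun h => Comp.mem_Ns_of fun n hn => ?_, fun h => Comp.mem_Ns_of ?_⟩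
  · have := mem_normalizer_conj h (mem_map_of_mem ψ hn)
    rw [← map_inv, ← map_mul, ← map_mul] at this
    exact (k.mem hN (mul_mem (mul_mem hv (hN hn)) (inv_mem hv))).1 this
  · rintro _ ⟨n, hn, rfl⟩
    exact ⟨_, mem_normalizer_conj h hn, by simp⟩

theorem T0.comm (k : TK ψ P) (hv : v ∈ P) (hw : w ∈ P) : ψ v * ψ w = ψ w * ψ v ↔ v * w = w * v := by
  rw [← map_mul, ← map_mul]
  exact ⟨k.inj (mul_mem hv hw) (mul_mem hw hv), congrArg ψ⟩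

theorem TK.C1 (k : TK ψ P) (hN : N ≤ P) (hv : v ∈ P) :
    N.map ψ ⊓ C1 (ψ v) = (N ⊓ C1 v).map ψ := by
  refine le_antisymm ?_ ?_
  · rintro _ ⟨⟨n, hn, rfl⟩, h⟩
    exact ⟨n, ⟨hn, mem_C1.2 ((T0.comm k (hN hn) hv).1 (mem_C1.1 h))⟩, rfl⟩
  · rintro _ ⟨n, ⟨hn, h⟩, rfl⟩
    exact ⟨⟨n, hn, rfl⟩, mem_C1.2 ((T0.comm k (hN hn) hv).2 (mem_C1.1 h))⟩

theorem TK.Cs (k : TK ψ P) (hN : N ≤ P) (hQ : Q ≤ P) :
    N.map ψ ⊓ Cs (Q.map ψ) = (N ⊓ Cs Q).map ψ := by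
  refine le_antisymm ?_ ?_
  · rintro _ ⟨⟨n, hn, rfl⟩, h⟩
    exact ⟨n, ⟨hn, mem_Cs.2 fun q hq =>
      (T0.comm k (hQ hq) (hN hn)).1 (mem_Cs.1 h _ (mem_map_of_mem ψ hq))⟩, rfl⟩
  · rintro _ ⟨n, ⟨hn, h⟩, rfl⟩
    refine ⟨⟨n, hn, rfl⟩, mem_Cs.2 ?_⟩
    rintro _ ⟨q, hq, rfl⟩
    exact (T0.comm k (hQ hq) (hN hn)).2 (mem_Cs.1 h q hq)

theorem T0.cm (hv : v ∈ P) (hw : w ∈ P) : ⁅v, w⁆ ∈ P :=
  mul_mem (mul_mem (mul_mem hv hw) (inv_mem hv)) (inv_mem hw)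

theorem TK.Sb (k : TK ψ P) (hN : N ≤ P) (hQ : Q ≤ P) (hv : v ∈ P) :
    Sb (N.map ψ) (Q.map ψ) (ψ v) ↔ Sb N Q v := by
  refine ⟨fun h n hn => (k.mem hQ (T0.cm hv (hN hn))).1 ?_, fun h => ?_⟩
  · rw [map_commutatorElement]
    exact h _ (mem_map_of_mem ψ hn)
  · rintro _ ⟨n, hn, rfl⟩
    exact ⟨_, h n hn, map_commutatorElement _ _ _⟩

theorem TK.card (k : TK ψ P) (hN : N ≤ P) : Nat.card (N.map ψ) = Nat.card N :=
  (Nat.card_congr (Equiv.ofBijective (ψ.subgroupMap N)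
    ⟨fun a b e => Subtype.ext (k.inj (hN a.2) (hN b.2) (congrArg Subtype.val e)),
      ψ.subgroupMap_surjective N⟩)).symm

end TK

end Abstract

end Cfsg.Lib.SUE6
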